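import Groth.Prelude.Def_LefPen
import Groth.Agent.SepTang48.Chart
import Groth.Agent.BertiniPn.Basic
import Groth.Agent.IdealSh.Comap

/-!
# The ideal sheaf of a hypersurface on the standard charts

* `dehom_eq_eval₂`: `G / X j ^ d` is `G` evaluated at the coordinates `ρ k r j`.
* `hypIdeal_ideal`: the family defining `LefPen.hypIdeal` is already quasi-coherent.
* `hypIdeal_ideal_of_le`: on an affine open inside a chart it is generated by the dehomogenisation.
* `secIdeal_singleton_ideal`: the same for the section of an embedded scheme.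
-/

set_option autoImplicit false
set_option linter.style.haveILetI false

universe u

open CategoryTheory AlgebraicGeometry TopologicalSpace HomogeneousLocalization Opposite

noncomputable section

namespace Groth.Agent.LefHyp

open Groth.Agent.SepTang48 Groth.Agent.QCoh Groth.Agent.ProjMorph Groth.Agent.Props.ProjFrame LefPen

variable {k : Type u} [Field k] {r d : ℕ}

theorem X_pow_mem (j : Fin (r + 1)) (d : ℕ) :
    (MvPolynomial.X j : MvPolynomial (Fin (r + 1)) k) ^ d ∈ CohB1.polyGrading r k d := by
  simpa using SetLike.pow_mem_graded d (LefPen.X_mem r k j)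

theorem dehom_eq_coeff (G : Form r k d) (j : Fin (r + 1))
    (hj : D k r j ≤ Proj.basicOpen (CohB1.polyGrading r k) (MvPolynomial.X j ^ d)) :
    dehom G j = coeff G.2 (X_pow_mem j d) (D k r j) hj := by
  refine valAt_ext fun x => ?_
  rw [valAt_coeff]
  refine (ProjectiveSpectrum.Proj.awayToSection_apply (CohB1.polyGrading r k) (MvPolynomial.X j) _ x).trans ?_
  rw [Away.val_mk, Localization.mk_eq_mk', IsLocalization.map_mk', ← Localization.mk_eq_mk']
  rfl

theorem D_le_pow (j : Fin (r + 1)) (d : ℕ) :
    D k r j ≤ Proj.basicOpen (CohB1.polyGrading r k) (MvPolynomial.X j ^ d) := by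
  intro x hx h
  exact hx ((show ProjectiveSpectrum (CohB1.polyGrading r k) from x).isPrime.mem_of_pow_mem d h)

theorem valAt_dehom (G : Form r k d) (j : Fin (r + 1)) (x : D k r j) :
    valAt (dehom G j) x = Localization.mk G.1 ⟨MvPolynomial.X j ^ d, D_le_pow j d x.2⟩ := by
  rw [dehom_eq_coeff G j (D_le_pow j d), valAt_coeff]

/-- Transition between two charts. -/
theorem rres_dehom (G : Form r k d) (i j : Fin (r + 1)) (W : (Proj (CohB1.polyGrading r k)).Opens)
    (hi : W ≤ D k r i) (hj : W ≤ D k r j) :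
    rres hj (dehom G j) = rres hj (ρ k r j i) ^ d * rres hi (dehom G i) := by
  refine valAt_ext fun x => ?_
  rw [valAt_mul, valAt_pow, valAt_rres, valAt_rres, valAt_rres, valAt_dehom, valAt_dehom]
  simp only [ρ, valAt_coeff]
  rw [Localization.mk_pow, Localization.mk_mul, Localization.mk_eq_mk_iff, Localization.r_iff_exists]
  refine ⟨1, ?_⟩
  simp only [OneMemClass.coe_one, one_mul, Submonoid.coe_mul, SubmonoidClass.coe_pow]
  ring

theorem rres_ρ_mul (i j l : Fin (r + 1)) (W : (Proj (CohB1.polyGrading r k)).Opens)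
    (hi : W ≤ D k r i) (hj : W ≤ D k r j) :
    rres hj (ρ k r j l) = rres hj (ρ k r j i) * rres hi (ρ k r i l) := by
  refine valAt_ext fun x => ?_
  rw [valAt_mul, valAt_rres, valAt_rres, valAt_rres]
  simp only [ρ, valAt_coeff]
  rw [Localization.mk_mul, Localization.mk_eq_mk_iff, Localization.r_iff_exists]
  refine ⟨1, ?_⟩
  simp only [OneMemClass.coe_one, one_mul, Submonoid.coe_mul]
  ring

/-- The dehomogenisation is the form evaluated at the affine coordinates. -/
theorem dehom_eq_eval₂ (G : Form r k d) (j : Fin (r + 1)) :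
    dehom G j = MvPolynomial.eval₂Hom (const k r j) (ρ k r j) G.1 := by
  let 𝒜 := CohB1.polyGrading r k
  let φ : k →+* Away 𝒜 (MvPolynomial.X j : MvPolynomial (Fin (r + 1)) k) :=
    (fromZeroRingHom 𝒜 _).comp (algebraMap k (𝒜 0))
  let y : Fin (r + 1) → Away 𝒜 (MvPolynomial.X j : MvPolynomial (Fin (r + 1)) k) := fun l =>
    Away.mk 𝒜 (LefPen.X_mem r k j) 1 (MvPolynomial.X l) (by rw [one_smul]; exact LefPen.X_mem r k l)
  have key : Away.mk 𝒜 (LefPen.X_mem r k j) d G.1 (by rw [smul_eq_mul, mul_one]; exact G.2) =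
      MvPolynomial.eval₂Hom φ y G.1 := by
    refine HomogeneousLocalization.val_injective _ ?_
    conv_rhs => rw [← HomogeneousLocalization.algebraMap_apply, MvPolynomial.map_eval₂Hom]
    rw [Away.val_mk]
    let L := Localization.Away (MvPolynomial.X j : MvPolynomial (Fin (r + 1)) k)
    let S := MvPolynomial (Fin (r + 1)) k
    let pw : ℕ → Submonoid.powers (MvPolynomial.X j : S) := fun e => ⟨MvPolynomial.X j ^ e, e, rfl⟩
    have hinv : ∀ (p : S) (e : ℕ), (Localization.mk p (pw e) : L) =
          algebraMap S L p * Localization.mk 1 (pw e) := fun p e => by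
      rw [← Localization.mk_one_eq_algebraMap, Localization.mk_mul, mul_one, one_mul]
    have h : ((algebraMap (Away 𝒜 (MvPolynomial.X j : S)) L).comp φ) = algebraMap k L := by
      refine RingHom.ext fun c => ?_
      change (fromZeroRingHom 𝒜 (Submonoid.powers (MvPolynomial.X j : S)) (algebraMap k (𝒜 0) c)).val = _
      refine (HomogeneousLocalization.val_mk _).trans ?_
      rw [IsScalarTower.algebraMap_apply k S L, ← Localization.mk_one_eq_algebraMap]
      rfl
    rw [h]
    change _ = MvPolynomial.aeval (R := k) (fun l => (y l).val) G.1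
    let w : L := Localization.mk 1 (pw 1)
    have hy : (fun l => (y l).val) = fun l => w * algebraMap S L (MvPolynomial.X l) :=
      funext fun l => ((Away.val_mk _ _ _ _ _).trans (hinv _ 1)).trans (mul_comm _ _)
    rw [hy, BertiniPn.aeval_scale ((MvPolynomial.mem_homogeneousSubmodule _ _).1 G.2) w]
    rw [show MvPolynomial.aeval (R := k) (fun l => algebraMap S L (MvPolynomial.X l)) G.1 = algebraMap S L G.1 from
      (AlgHom.congr_fun (MvPolynomial.aeval_unique (IsScalarTower.toAlgHom k S L)) G.1).symm]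
    refine (hinv G.1 d).trans ?_
    rw [Localization.mk_pow, one_pow, mul_comm]
    congr 2
    exact Subtype.ext (congrArg (· ^ d) (pow_one (MvPolynomial.X j : S))).symm
  rw [dehom, key, MvPolynomial.map_eval₂Hom, const_eq]
  refine congrFun (congrArg _ ?_) G.1
  rw [RingHom.comp_assoc]
  refine congrArg (fun g => MvPolynomial.eval₂Hom _ g) (funext fun l => ?_)
  exact awayToSection_mk_one (LefPen.X_mem r k j) (LefPen.X_mem r k l) _

theorem dehom_add (G H : Form r k d) (j : Fin (r + 1)) : dehom (G + H) j = dehom G j + dehom H j := by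
  simp [dehom_eq_eval₂]

theorem dehom_smul (c : k) (G : Form r k d) (j : Fin (r + 1)) : dehom (c • G) j = const k r j c * dehom G j := by
  simp [dehom_eq_eval₂, MvPolynomial.smul_eq_C_mul]

theorem map_comap_localization {A A' B B' : Type*} [CommRing A] [CommRing A'] [CommRing B] [CommRing B']
    [Algebra A A'] [Algebra B B'] (φ : A →+* B) (φ' : A' →+* B') (f : A)
    [IsLocalization.Away f A'] [IsLocalization.Away (φ f) B']
    (hcomm : φ'.comp (algebraMap A A') = (algebraMap B B').comp φ) (J : Ideal B) :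
    (J.comap φ).map (algebraMap A A') = (J.map (algebraMap B B')).comap φ' := by
  refine le_antisymm ?_ fun z hz => ?_
  · rw [Ideal.map_le_iff_le_comap, Ideal.comap_comap, hcomm, ← Ideal.comap_comap]
    exact Ideal.comap_mono Ideal.le_comap_map
  · obtain ⟨a, ⟨_, m, rfl⟩, rfl⟩ := IsLocalization.exists_mk'_eq (Submonoid.powers f) z
    have hmem : algebraMap B B' (φ a) ∈ J.map (algebraMap B B') := by
      rw [← RingHom.comp_apply (algebraMap B B') φ, ← hcomm, RingHom.comp_apply,
        ← IsLocalization.mk'_spec A' a (⟨f ^ m, m, rfl⟩ : Submonoid.powers f), map_mul]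
      exact Ideal.mul_mem_right _ _ hz
    rw [IsLocalization.algebraMap_mem_map_algebraMap_iff (Submonoid.powers (φ f))] at hmem
    obtain ⟨_, ⟨N, rfl⟩, hN⟩ := hmem
    rw [IsLocalization.mk'_mem_map_algebraMap_iff]
    exact ⟨f ^ N, ⟨N, rfl⟩, by simpa using hN⟩

theorem hypFamily_map_basicOpen (G : Form r k d) (U : (CohB1.ProjSpace r k).affineOpens)
    (f : Γ(CohB1.ProjSpace r k, U)) :
    (hypFamily G U).map ((CohB1.ProjSpace r k).presheaf.map (homOfLE <| (CohB1.ProjSpace r k).basicOpen_le f).op).hom =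
      hypFamily G ((CohB1.ProjSpace r k).affineBasicOpen f) := by
  let X := CohB1.ProjSpace r k
  haveI : X.IsSeparated := inferInstanceAs (Scheme.IsSeparated (Proj (CohB1.polyGrading r k)))
  let e : X.basicOpen f ≤ U.1 := X.basicOpen_le f
  letI : Algebra Γ(X, U) Γ(X, X.basicOpen f) := (rres e).hom.toAlgebra
  haveI : IsLocalization.Away f Γ(X, X.basicOpen f) := U.2.isLocalization_basicOpen f
  let J : ∀ i, Ideal Γ(X, U.1 ⊓ chart r k i) := fun i => Ideal.span {rres inf_le_right (dehom G i)}
  let J' : ∀ i, Ideal Γ(X, X.basicOpen f ⊓ chart r k i) := fun i => Ideal.span {rres inf_le_right (dehom G i)}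
  have key : ∀ i, ((J i).comap (rres (inf_le_left : U.1 ⊓ chart r k i ≤ U.1)).hom).map
      (algebraMap Γ(X, U) Γ(X, X.basicOpen f)) =
        (J' i).comap (rres (inf_le_left : X.basicOpen f ⊓ chart r k i ≤ X.basicOpen f)).hom := by
    intro i
    have hle : X.basicOpen f ⊓ chart r k i ≤ U.1 ⊓ chart r k i := inf_le_inf_right _ e
    letI : Algebra Γ(X, U.1 ⊓ chart r k i) Γ(X, X.basicOpen f ⊓ chart r k i) := (rres hle).hom.toAlgebra
    have haff : IsAffineOpen (U.1 ⊓ chart r k i) := U.2.inf (isAffineOpen_D k r i)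
    haveI : IsLocalization.Away ((rres (inf_le_left : U.1 ⊓ chart r k i ≤ U.1)).hom f)
        Γ(X, X.basicOpen f ⊓ chart r k i) := by
      refine haff.isLocalization_of_eq_basicOpen _ (homOfLE hle) ?_
      rw [Scheme.basicOpen_res]
      apply le_antisymm
      · exact le_inf (inf_le_inf_right _ e) inf_le_left
      · exact le_inf inf_le_right (inf_le_left.trans inf_le_right)
    rw [map_comap_localization (rres (inf_le_left : U.1 ⊓ chart r k i ≤ U.1)).hom
      (rres (inf_le_left : X.basicOpen f ⊓ chart r k i ≤ X.basicOpen f)).hom f ?_ (J i)]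
    · congr 1
      rw [Ideal.map_span, Set.image_singleton]
      simp only [J', RingHom.algebraMap_toAlgebra, rres_rres]
      rfl
    · refine RingHom.ext fun a => ?_
      simp only [RingHom.comp_apply, RingHom.algebraMap_toAlgebra, rres_rres]
  have hmapinf : ∀ (g : Fin (r + 1) → Ideal Γ(X, U)),
      (⨅ i, g i).map (algebraMap Γ(X, U) Γ(X, X.basicOpen f)) = ⨅ i, (g i).map (algebraMap _ _) := by
    intro g
    refine le_antisymm (le_iInf fun i => Ideal.map_mono (iInf_le _ i)) fun z hz => ?_
    obtain ⟨a, s, rfl⟩ := IsLocalization.exists_mk'_eq (Submonoid.powers f) z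
    rw [Ideal.mem_iInf] at hz
    simp only [IsLocalization.mk'_mem_map_algebraMap_iff] at hz
    choose t ht hta using hz
    rw [IsLocalization.mk'_mem_map_algebraMap_iff]
    refine ⟨∏ i, t i, prod_mem fun i _ => ht i, Ideal.mem_iInf.2 fun i => ?_⟩
    rw [← Finset.prod_erase_mul _ _ (Finset.mem_univ i), mul_assoc]
    exact Ideal.mul_mem_left _ _ (hta i)
  exact (hmapinf _).trans (iInf_congr key)

/-- `hypFamily` is quasi-coherent, so it is the ideal of the hypersurface on every affine open. -/
theorem hypIdeal_ideal (G : Form r k d) (U : (CohB1.ProjSpace r k).affineOpens) :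
    (hypIdeal G).ideal U = hypFamily G U := by
  let I : (CohB1.ProjSpace r k).IdealSheafData :=
    { ideal := hypFamily G, map_ideal_basicOpen := hypFamily_map_basicOpen G }
  rw [show hypIdeal G = I from Scheme.IdealSheafData.ofIdeals_ideal I]

theorem hypIdeal_ideal_of_le (G : Form r k d) (j : Fin (r + 1)) (U : (CohB1.ProjSpace r k).affineOpens)
    (h : U.1 ≤ D k r j) : (hypIdeal G).ideal U = Ideal.span {rres h (dehom G j)} := by
  rw [hypIdeal_ideal]
  apply le_antisymm
  · intro a ha
    have ha' := Ideal.mem_iInf.1 ha j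
    obtain ⟨c, hc⟩ := Ideal.mem_span_singleton'.1 (Ideal.mem_comap.1 ha')
    have hle : U.1 ≤ U.1 ⊓ chart r k j := le_inf le_rfl h
    refine Ideal.mem_span_singleton'.2 ⟨rres hle c, ?_⟩
    have := congrArg (rres hle) hc
    rw [map_mul, rres_rres] at this
    rw [this]
    exact (rres_rres inf_le_left hle a).trans (rres_self _ a)
  · rw [Ideal.span_singleton_le_iff_mem]
    refine Ideal.mem_iInf.2 fun i => Ideal.mem_comap.2 ?_
    refine (congrArg (· ∈ _) ((rres_rres h inf_le_left (dehom G j)).trans
      (rres_dehom G i j _ inf_le_right (inf_le_left.trans h)))).mpr ?_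
    exact Ideal.mul_mem_left _ _ (Ideal.mem_span_singleton_self _)

theorem secIdeal_singleton_ideal {X : Scheme.{u}} (ι : X ⟶ CohB1.ProjSpace r k) (G : Form r k d) (j : Fin (r + 1))
    (V : X.affineOpens) (h : V.1 ≤ ι ⁻¹ᵁ D k r j) :
    (secIdeal ι ({G} : Set (Form r k d))).ideal V = Ideal.span {(ι.appLE (D k r j) V.1 h).hom (dehom G j)} := by
  rw [secIdeal, iSup_singleton]
  refine IdealSh.Comap.ideal_comap_span_singleton _ ι ⟨_, isAffineOpen_D k r j⟩ V h ?_
  rw [hypIdeal_ideal_of_le G j ⟨_, isAffineOpen_D k r j⟩ le_rfl, rres_self]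

end Groth.Agent.LefHyp
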