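import Groth.Agent.LefHyp.Charts

/-!
# Smoothness of a hypersurface in projective space over any field

* `smooth_quotient_iff`: `k[x] ⧸ (f)` is smooth iff `f` and its partial derivatives have no common prime.
* `smooth_hypersurface_iff`: a hypersurface of `P^r` is smooth iff all its dehomogenisations are.
-/

set_option autoImplicit false
set_option linter.style.haveILetI false

universe u

open CategoryTheory AlgebraicGeometry TopologicalSpace MvPolynomial TensorProduct

noncomputable section

namespace Groth.Agent.LefHyp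

open Groth.Agent.SepTang48 Groth.Agent.QCoh Groth.Agent.BertiniPn LefPen

variable {k : Type u} [Field k]

theorem D_eq_sum_pderiv {σ : Type} [Fintype σ] (p : MvPolynomial σ k) :
    KaehlerDifferential.D k (MvPolynomial σ k) p =
      ∑ i, pderiv i p • KaehlerDifferential.D k (MvPolynomial σ k) (MvPolynomial.X i) := by
  classical
  induction p using MvPolynomial.induction_on with
  | C c =>
    rw [← MvPolynomial.algebraMap_eq, Derivation.map_algebraMap]
    simp
  | add p q hp hq => simp only [map_add, add_smul, Finset.sum_add_distrib, hp, hq]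
  | mul_X p i hp =>
    rw [Derivation.leibniz, hp, Finset.smul_sum]
    simp only [pderiv_mul, add_smul, Finset.sum_add_distrib, smul_smul, pderiv_X, Pi.single_apply, mul_ite,
      mul_one, mul_zero, ite_smul, zero_smul, Finset.sum_ite_eq, Finset.mem_univ, if_true, mul_comm]
    abel

/-- The Jacobian criterion for a hypersurface in affine space. -/
theorem smooth_quotient_iff {σ : Type} [Fintype σ] {f : MvPolynomial σ k} (hf : f ≠ 0) :
    Algebra.FormallySmooth k (MvPolynomial σ k ⧸ Ideal.span {f}) ↔
      ∀ P : Ideal (MvPolynomial σ k), P.IsPrime → f ∈ P → ∃ i, pderiv i f ∉ P := by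
  classical
  constructor
  · intro hR P hP hfP
    by_contra hall
    push Not at hall
    let R := MvPolynomial σ k ⧸ Ideal.span {f}
    have hsurj : Function.Surjective (algebraMap (MvPolynomial σ k) R) := Ideal.Quotient.mk_surjective
    obtain ⟨l, hl⟩ := (Algebra.FormallySmooth.iff_split_injection (P := MvPolynomial σ k) hsurj).1 hR
    let I := RingHom.ker (algebraMap (MvPolynomial σ k) R)
    have hIf : I = Ideal.span {f} := Ideal.mk_ker
    have hmem : f ∈ I := hIf ▸ Ideal.mem_span_singleton_self f
    let J := Submodule.map I.toCotangent (P • (⊤ : Submodule (MvPolynomial σ k) I))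
    have h1 : I.toCotangent ⟨f, hmem⟩ ∈ J := by
      have := LinearMap.congr_fun hl (I.toCotangent ⟨f, hmem⟩)
      rw [LinearMap.comp_apply, LinearMap.id_apply, KaehlerDifferential.kerCotangentToTensor_toCotangent] at this
      rw [← this, D_eq_sum_pderiv, TensorProduct.tmul_sum, map_sum]
      refine Submodule.sum_mem _ fun i _ => ?_
      rw [TensorProduct.tmul_smul, map_smul]
      obtain ⟨z, hz⟩ := I.toCotangent_surjective (l (1 ⊗ₜ KaehlerDifferential.D k _ (MvPolynomial.X i)))
      rw [← hz, ← map_smul]
      exact Submodule.mem_map_of_mem (Submodule.smul_mem_smul (hall i) Submodule.mem_top)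
    obtain ⟨z, hz, hzf⟩ := h1
    rw [Ideal.toCotangent_eq] at hzf
    have h2 : ∀ w : I, w ∈ P • (⊤ : Submodule (MvPolynomial σ k) I) → ∃ p ∈ P, (w : MvPolynomial σ k) = p * f := by
      intro w hw
      refine Submodule.smul_induction_on (p := fun w : I => ∃ p ∈ P, (w : MvPolynomial σ k) = p * f) hw ?_ ?_
      · intro a ha b _
        obtain ⟨c, hc⟩ := Ideal.mem_span_singleton'.1 (hIf ▸ b.2 : (b : MvPolynomial σ k) ∈ Ideal.span {f})
        exact ⟨a * c, P.mul_mem_right c ha, by
          show a * (b : MvPolynomial σ k) = a * c * f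
          rw [← hc, mul_assoc]⟩
      · rintro a b ⟨p, hp, ha⟩ ⟨q, hq, hb⟩
        exact ⟨p + q, add_mem hp hq, by rw [Submodule.coe_add, ha, hb, add_mul]⟩
    obtain ⟨p, hp, hzp⟩ := h2 z hz
    replace hzf : (z : MvPolynomial σ k) - f ∈ Ideal.span {f} ^ 2 := Ideal.pow_right_mono hIf.le 2 hzf
    rw [Ideal.span_singleton_pow, Ideal.mem_span_singleton'] at hzf
    obtain ⟨c, hc⟩ := hzf
    rw [hzp] at hc
    have h3 : f * (p - 1 - c * f) = 0 := by linear_combination -hc
    have h4 : (1 : MvPolynomial σ k) = p - c * f := by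
      linear_combination -((mul_eq_zero.1 h3).resolve_left hf)
    exact hP.ne_top ((Ideal.eq_top_iff_one _).2 (h4 ▸ sub_mem hp (P.mul_mem_left c hfP)))
  · intro h
    refine formallySmooth_quotient f fun P _ hfP h0 => ?_
    obtain ⟨i, hi⟩ := h P inferInstance hfP
    refine hi ?_
    let δ : Derivation k (MvPolynomial σ k) P.ResidueField :=
      mkDerivation k fun l => if l = i then 1 else 0
    have := congrArg (δ.liftKaehlerDifferential.liftBaseChange P.ResidueField) h0
    rw [LinearMap.liftBaseChange_tmul, one_smul, Derivation.liftKaehlerDifferential_comp_D, map_zero] at this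
    refine Ideal.algebraMap_residueField_eq_zero.1 ?_
    rw [← this]
    have key : ∀ p : MvPolynomial σ k, δ p = algebraMap _ P.ResidueField (pderiv i p) := by
      intro p
      induction p using MvPolynomial.induction_on with
      | C c => rw [derivation_C, pderiv_C, map_zero]
      | add p q hp hq => rw [map_add, hp, hq, map_add, map_add]
      | mul_X p l hp =>
        rw [Derivation.leibniz, hp, pderiv_mul, mkDerivation_X, pderiv_X, map_add, Algebra.smul_def, Algebra.smul_def,
          map_mul, map_mul, Pi.single_apply, apply_ite (algebraMap _ P.ResidueField), map_one, map_zero]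
        ring
    exact (key f).symm

variable {r : ℕ}

/-- Setting `X j = 1`. -/
def setOne (j : Fin (r + 1)) : MvPolynomial (Fin (r + 1)) k →ₐ[k] MvPolynomial (Fin r) k :=
  aeval (Fin.insertNth j 1 MvPolynomial.X)

theorem ker_aeval_coord_le (j : Fin (r + 1)) :
    RingHom.ker (aeval (coord (𝟙 (CohB1.ProjSpace r k)) j) :
      MvPolynomial (Fin (r + 1)) k →ₐ[k] Γ(CohB1.ProjSpace r k, U (𝟙 (CohB1.ProjSpace r k)) j)) ≤
      RingHom.ker (setOne (k := k) j) := by
  intro Q hQ
  let 𝒜 := CohB1.polyGrading r k
  let φ : k →+* HomogeneousLocalization.Away 𝒜 (MvPolynomial.X j : MvPolynomial (Fin (r + 1)) k) :=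
    (HomogeneousLocalization.fromZeroRingHom 𝒜 _).comp (algebraMap k (𝒜 0))
  let y : Fin (r + 1) → HomogeneousLocalization.Away 𝒜 (MvPolynomial.X j : MvPolynomial (Fin (r + 1)) k) := fun l =>
    HomogeneousLocalization.Away.mk 𝒜 (LefPen.X_mem r k j) 1 (MvPolynomial.X l)
      (by rw [one_smul]; exact LefPen.X_mem r k l)
  have h0 : MvPolynomial.eval₂Hom φ y Q = 0 := by
    have h1 : MvPolynomial.eval₂Hom (const k r j) (ρ k r j) Q = 0 := by
      rw [RingHom.mem_ker] at hQ
      refine Eq.trans ?_ hQ
      rfl
    refine (ConcreteCategory.bijective_of_isIso (Proj.basicOpenIsoAway 𝒜 _ (LefPen.X_mem r k j) one_pos).hom).1 ?_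
    rw [map_zero]
    refine Eq.trans ?_ h1
    rw [Proj.basicOpenIsoAway_hom, MvPolynomial.map_eval₂Hom, const_eq]
    refine congrFun (congrArg _ ?_) Q
    rw [RingHom.comp_assoc]
    refine congrArg (fun g => MvPolynomial.eval₂Hom _ g) (funext fun l => ?_)
    exact Groth.Agent.ProjMorph.awayToSection_mk_one (LefPen.X_mem r k j) (LefPen.X_mem r k l) _
  have hu : IsUnit (setOne (k := k) j (MvPolynomial.X j)) := by
    simp [setOne]
  let L := Localization.Away (MvPolynomial.X j : MvPolynomial (Fin (r + 1)) k)
  let ev : L →+* MvPolynomial (Fin r) k := IsLocalization.Away.lift (MvPolynomial.X j) (g := (setOne (k := k) j).toRingHom) hu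
  let Θ : HomogeneousLocalization.Away 𝒜 (MvPolynomial.X j : MvPolynomial (Fin (r + 1)) k) →+* MvPolynomial (Fin r) k :=
    ev.comp (algebraMap _ L)
  have key : Θ.comp (MvPolynomial.eval₂Hom φ y) = (setOne (k := k) j).toRingHom := by
    refine MvPolynomial.ringHom_ext (fun c => ?_) (fun l => ?_)
    · show ev (MvPolynomial.eval₂Hom φ y (C c)).val = _
      rw [eval₂Hom_C]
      show ev ((HomogeneousLocalization.fromZeroRingHom 𝒜 _ (algebraMap k (𝒜 0) c)).val) = _
      erw [HomogeneousLocalization.val_mk]
      rw [Localization.mk_eq_mk']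
      refine (IsLocalization.lift_mk'_spec _ _ _ _).2 ?_
      show setOne j (algebraMap k (MvPolynomial (Fin (r + 1)) k) c) = setOne j (1 : MvPolynomial (Fin (r + 1)) k) * _
      simp [setOne]
    · show ev (MvPolynomial.eval₂Hom φ y (MvPolynomial.X l)).val = _
      rw [eval₂Hom_X']
      erw [HomogeneousLocalization.Away.val_mk]
      rw [Localization.mk_eq_mk']
      refine (IsLocalization.lift_mk'_spec _ _ _ _).2 ?_
      show setOne j (MvPolynomial.X l) = setOne j (MvPolynomial.X j ^ 1) * setOne j (MvPolynomial.X l)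
      simp [setOne]
  rw [RingHom.mem_ker]
  have := RingHom.congr_fun key Q
  rw [RingHom.comp_apply, h0, map_zero] at this
  exact this.symm

theorem aeval_coord_succAbove (j : Fin (r + 1)) (p : MvPolynomial (Fin (r + 1)) k) :
    aeval (fun i => coord (𝟙 (CohB1.ProjSpace r k)) j (j.succAbove i)) (setOne (k := k) j p) =
      aeval (coord (𝟙 (CohB1.ProjSpace r k)) j) p := by
  refine AlgHom.congr_fun (MvPolynomial.algHom_ext (f := (aeval fun i => coord (𝟙 (CohB1.ProjSpace r k)) j (j.succAbove i)).comp (setOne (k := k) j))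
    (g := aeval (coord (𝟙 (CohB1.ProjSpace r k)) j)) fun l => ?_) p
  induction l using Fin.succAboveCases j with
  | x => simp [setOne, coord_self]
  | p i => simp [setOne]

/-- The chart of projective space as affine space. -/
def chartEquiv (j : Fin (r + 1)) :
    MvPolynomial (Fin r) k ≃ₐ[k] Γ(CohB1.ProjSpace r k, U (𝟙 (CohB1.ProjSpace r k)) j) :=
  AlgEquiv.ofBijective (aeval fun i => coord (𝟙 (CohB1.ProjSpace r k)) j (j.succAbove i)) (by
    have hsec : ∀ p : MvPolynomial (Fin r) k, setOne (k := k) j (rename j.succAbove p) = p := fun p => by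
      rw [setOne, aeval_rename]
      refine (congrArg (fun v => aeval v p) ?_).trans (AlgHom.congr_fun (aeval_X_left) p)
      funext i; simp
    constructor
    · rw [injective_iff_map_eq_zero]
      intro p hp
      rw [← hsec p] at hp ⊢
      rw [aeval_coord_succAbove] at hp
      exact ker_aeval_coord_le j hp
    · intro a
      obtain ⟨q, rfl⟩ := aeval_coord_surjective (𝟙 (CohB1.ProjSpace r k)) j a
      exact ⟨setOne j q, aeval_coord_succAbove j q⟩)

/-- A hypersurface is smooth iff each of its dehomogenisations is. -/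
theorem smooth_hypersurface_iff {d : ℕ} (G : Form r k d) :
    Smooth ((hypIdeal G).subschemeι ≫ CohB1.ProjSpace.toSpec r k) ↔
      ∀ j : Fin (r + 1), Algebra.FormallySmooth k (MvPolynomial (Fin r) k ⧸ Ideal.span {setOne (k := k) j G.1}) := by
  let ι := 𝟙 (CohB1.ProjSpace r k)
  have hId : secIdeal ι ({G} : Set (Form r k d)) = hypIdeal G := by
    rw [secIdeal, iSup_singleton, Scheme.IdealSheafData.comap_id]
  have h0 : Smooth ((hypIdeal G).subschemeι ≫ CohB1.ProjSpace.toSpec r k) ↔
      Smooth (secToSpec ι ({G} : Set (Form r k d))) := by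
    have key : ∀ I : (CohB1.ProjSpace r k).IdealSheafData, I = hypIdeal G →
        (Smooth ((hypIdeal G).subschemeι ≫ CohB1.ProjSpace.toSpec r k) ↔
          Smooth (I.subschemeι ≫ ι ≫ CohB1.ProjSpace.toSpec r k)) := by
      rintro I rfl
      simp [ι]
    exact key _ hId
  rw [h0]
  set I := secIdeal ι ({G} : Set (Form r k d)) with hI
  let V : Fin (r + 1) → (CohB1.ProjSpace r k).affineOpens := fun j => ⟨U ι j, isAffineOpen_U ι j⟩
  have hcov : ⨆ j, (I.subschemeCover.f (V j)).opensRange = ⊤ := by
    simp only [Scheme.IdealSheafData.opensRange_subschemeCover_map]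
    rw [← Scheme.Hom.preimage_iSup]
    simp only [V, BertiniPn.U]
    rw [← Scheme.Hom.preimage_iSup, iSup_D]
    rfl
  rw [IsZariskiLocalAtSource.iff_of_iSup_eq_top (P := @Smooth) _ hcov]
  refine forall_congr' fun j => ?_
  rw [← MorphismProperty.cancel_left_of_respectsIso (P := @Smooth)
    (I.subschemeCover.f (V j)).isoOpensRange.hom, ← Category.assoc, Scheme.Hom.isoOpensRange_hom_ι]
  rw [show (I.subschemeCover.f (V j)) ≫ secToSpec ι ({G} : Set (Form r k d)) = _ from sec_chart_map ι G j]
  have key : ∀ J : Ideal Γ(CohB1.ProjSpace r k, U ι j), J = Ideal.span {hF ι j G} →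
      (Smooth (Spec.map (CommRingCat.ofHom (algebraMap k (Γ(CohB1.ProjSpace r k, U ι j) ⧸ J)))) ↔
        Algebra.FormallySmooth k (MvPolynomial (Fin r) k ⧸ Ideal.span {setOne (k := k) j G.1})) := by
    rintro J rfl
    rw [HasRingHomProperty.Spec_iff (P := @Smooth), CommRingCat.hom_ofHom, RingHom.smooth_algebraMap]
    let e : (MvPolynomial (Fin r) k ⧸ Ideal.span {setOne (k := k) j G.1}) ≃ₐ[k]
        Γ(CohB1.ProjSpace r k, U ι j) ⧸ Ideal.span {hF ι j G} :=
      Ideal.quotientEquivAlg _ _ (chartEquiv j) (by
        rw [Ideal.map_span, Set.image_singleton]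
        exact congrArg (fun a => Ideal.span {a}) (aeval_coord_succAbove j G.1).symm)
    haveI : Algebra.FiniteType k (MvPolynomial (Fin r) k ⧸ Ideal.span {setOne (k := k) j G.1}) := inferInstance
    constructor
    · intro h
      haveI := h.formallySmooth
      exact Algebra.FormallySmooth.of_equiv e.symm
    · intro h
      haveI : Algebra.FormallySmooth k (Γ(CohB1.ProjSpace r k, U ι j) ⧸ Ideal.span {hF ι j G}) :=
        Algebra.FormallySmooth.of_equiv e
      haveI : Algebra.FiniteType k (Γ(CohB1.ProjSpace r k, U ι j) ⧸ Ideal.span {hF ι j G}) :=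
        Algebra.FiniteType.equiv inferInstance e
      exact ⟨inferInstance, Algebra.FinitePresentation.of_finiteType.1 inferInstance⟩
  exact key _ (secIdeal_chart ι G j)

end Groth.Agent.LefHyp
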