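import Groth.Agent.BertiniPn.Basic
import Groth.Agent.CAlg76.SmoothRelDim

/-!
# When a hypersurface in a smooth algebra is smooth of one dimension less

`h` is singular at a maximal ideal `P` (`Sing k P h`) if it vanishes there to second order.
`smoothOfRelativeDimension_quotient_iff`: `A ⧸ (h)` is smooth of relative dimension `n - 1` iff there
is no such maximal ideal.
-/

set_option autoImplicit false
set_option linter.style.haveILetI false

universe u

open TensorProduct CategoryTheory AlgebraicGeometry

noncomputable section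

namespace Groth.Agent.LefHyp

variable {k : Type u} [Field k] {A : Type u} [CommRing A] [Algebra k A]

/-- `h` vanishes at `P` together with its differential. -/
def Sing (k : Type u) [Field k] {A : Type u} [CommRing A] [Algebra k A] (P : Ideal A) (h : A) : Prop :=
  h ∈ P ∧ KaehlerDifferential.D k A h ∈ P • (⊤ : Submodule A Ω[A⁄k])

/-- Smoothness of relative dimension `d` from smoothness and the rank of the differentials. -/
theorem smoothOfRelativeDimension_of_rank {d : ℕ} [Algebra.Smooth k A]
    (hrk : ∀ M : Ideal A, ∀ (_ : M.IsMaximal), Module.rankAtStalk (R := A) Ω[A⁄k] ⟨M, Ideal.IsMaximal.isPrime ‹_›⟩ = d) :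
    SmoothOfRelativeDimension d (Spec.map (CommRingCat.ofHom (algebraMap k A))) := by
  rw [HasRingHomProperty.Spec_iff (P := @SmoothOfRelativeDimension d)]
  refine ⟨{t | Algebra.IsStandardSmoothOfRelativeDimension d k (Localization.Away t)}, ?_, fun t ht => ?_⟩
  swap
  · rw [CommRingCat.hom_ofHom, ← IsScalarTower.algebraMap_eq]
    show RingHom.IsStandardSmoothOfRelativeDimension d (algebraMap k (Localization.Away t))
    exact (RingHom.isStandardSmoothOfRelativeDimension_algebraMap d).2 ht
  by_contra hne
  obtain ⟨M, hM, hle⟩ := Ideal.exists_le_maximal _ hne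
  haveI := hM.isPrime
  haveI : Algebra.IsSmoothAt k M := Algebra.FormallySmooth.comp k A (Localization.AtPrime M)
  obtain ⟨f, hf, hstd⟩ := Algebra.IsSmoothAt.exists_notMem_isStandardSmooth k (S := A) M
  refine hf (hle (Ideal.subset_span ?_))
  show Algebra.IsStandardSmoothOfRelativeDimension d k (Localization.Away f)
  have hmem : (⟨M, inferInstance⟩ : PrimeSpectrum A) ∈ Set.range (PrimeSpectrum.comap (algebraMap A (Localization.Away f))) := by
    rw [PrimeSpectrum.localization_away_comap_range (Localization.Away f) f]; exact hf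
  obtain ⟨Q, hQ⟩ := hmem
  haveI : Nontrivial (Localization.Away f) := Q.nontrivial
  haveI := hstd
  haveI : Algebra.FormallyEtale A (Localization.Away f) := Algebra.FormallyEtale.of_isLocalization (Submonoid.powers f)
  rw [Algebra.IsStandardSmoothOfRelativeDimension.iff_of_isStandardSmooth, ← Module.finrank_eq_rank]
  have h5 := congrFun (Module.rankAtStalk_eq_finrank_of_free (R := Localization.Away f) (M := Ω[Localization.Away f⁄k])) Q
  simp only [Pi.natCast_apply, Nat.cast_id] at h5
  rw [Nat.cast_inj, ← h5,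
    ← Module.rankAtStalk_eq_of_equiv (KaehlerDifferential.isBaseChange_of_formallyEtale k A (Localization.Away f)).equiv,
    Module.rankAtStalk_baseChange, hQ, hrk M hM]

variable (h : A)

/-- The differential of `h` on the hypersurface. -/
def dRestrict : (A ⧸ Ideal.span {h}) ⊗[A] Ω[A⁄k] := 1 ⊗ₜ KaehlerDifferential.D k A h

theorem range_toSpanSingleton_dRestrict :
    LinearMap.range (LinearMap.toSpanSingleton (A ⧸ Ideal.span {h}) _ (dRestrict (k := k) h)) =
      LinearMap.ker (KaehlerDifferential.mapBaseChange k A (A ⧸ Ideal.span {h})) := by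
  have hsurj : Function.Surjective (algebraMap A (A ⧸ Ideal.span {h})) := Ideal.Quotient.mk_surjective
  apply le_antisymm
  · rintro _ ⟨a, rfl⟩
    rw [LinearMap.toSpanSingleton_apply, LinearMap.mem_ker, map_smul, dRestrict,
      KaehlerDifferential.mapBaseChange_tmul, one_smul, KaehlerDifferential.map_D, Ideal.Quotient.algebraMap_eq,
      Ideal.Quotient.eq_zero_iff_mem.2 (Ideal.mem_span_singleton_self h), map_zero, smul_zero]
  · intro z hz
    have hz' : z ∈ LinearMap.range (KaehlerDifferential.kerCotangentToTensor k A (A ⧸ Ideal.span {h})) := by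
      rw [KaehlerDifferential.range_kerCotangentToTensor k A (A ⧸ Ideal.span {h}) hsurj]
      exact hz
    obtain ⟨t, rfl⟩ := hz'
    obtain ⟨⟨y, hy⟩, rfl⟩ := Ideal.toCotangent_surjective _ t
    have hy' : y ∈ Ideal.span {h} := by rw [← Ideal.Quotient.eq_zero_iff_mem]; exact hy
    obtain ⟨a, rfl⟩ := Ideal.mem_span_singleton'.1 hy'
    rw [KaehlerDifferential.kerCotangentToTensor_toCotangent]
    refine ⟨Ideal.Quotient.mk _ a, ?_⟩
    rw [LinearMap.toSpanSingleton_apply, Derivation.leibniz, tmul_add, ← smul_tmul, ← smul_tmul,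
      Algebra.smul_def, Algebra.smul_def, mul_one, mul_one, Ideal.Quotient.algebraMap_eq,
      Ideal.Quotient.eq_zero_iff_mem.2 (Ideal.mem_span_singleton_self h), zero_tmul, add_zero, dRestrict,
      smul_tmul', smul_eq_mul, mul_one]

/-- Without singular points the differential of `h` splits off. -/
theorem exists_retraction [Algebra.FormallySmooth k A] [Module.Finite A Ω[A⁄k]]
    (hns : ∀ P : Ideal A, P.IsMaximal → ¬ Sing k P h) :
    ∃ ψ : ((A ⧸ Ideal.span {h}) ⊗[A] Ω[A⁄k]) →ₗ[A ⧸ Ideal.span {h}] (A ⧸ Ideal.span {h}),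
      ψ (dRestrict h) = 1 := by
  classical
  let R := A ⧸ Ideal.span {h}
  obtain ⟨N, π, hπ⟩ := Module.Finite.exists_fin' A Ω[A⁄k]
  obtain ⟨ι, hι⟩ := Module.projective_lifting_property π LinearMap.id hπ
  have hone : Ideal.span (Set.range fun i => algebraMap A R (ι (KaehlerDifferential.D k A h) i)) = ⊤ := by
    by_contra hne
    obtain ⟨m, hm, hle⟩ := Ideal.exists_le_maximal _ hne
    haveI := hm
    haveI : (m.comap (algebraMap A R)).IsMaximal :=
      Ideal.comap_isMaximal_of_surjective _ Ideal.Quotient.mk_surjective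
    refine hns (m.comap (algebraMap A R)) inferInstance ⟨?_, ?_⟩
    · show algebraMap A R h ∈ m
      rw [Ideal.Quotient.algebraMap_eq, Ideal.Quotient.eq_zero_iff_mem.2 (Ideal.mem_span_singleton_self h)]
      exact m.zero_mem
    · rw [← LinearMap.id_apply (R := A) (KaehlerDifferential.D k A h), ← hι, LinearMap.comp_apply,
        pi_eq_sum_univ' (ι (KaehlerDifferential.D k A h)), map_sum]
      refine Submodule.sum_mem _ fun i _ => ?_
      rw [map_smul]
      exact Submodule.smul_mem_smul (show _ ∈ m.comap (algebraMap A R) from hle (Ideal.subset_span ⟨i, rfl⟩))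
        Submodule.mem_top
  obtain ⟨c, hc⟩ := (Ideal.mem_span_range_iff_exists_fun).1 (hone.ge (Submodule.mem_top (x := (1 : R))))
  refine ⟨(∑ i, c i • LinearMap.proj i) ∘ₗ (TensorProduct.piScalarRight A R R (Fin N)).toLinearMap ∘ₗ
      LinearMap.baseChange R ι, ?_⟩
  refine Eq.trans ?_ hc
  simp [dRestrict, R, Algebra.smul_def, mul_comm]

/-- `A ⧸ (h)` is smooth of relative dimension `n - 1` exactly when `h` has no singular point. -/
theorem smoothOfRelativeDimension_quotient_iff {n : ℕ} (hn : 1 ≤ n)
    (hA : SmoothOfRelativeDimension n (Spec.map (CommRingCat.ofHom (algebraMap k A)))) :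
    SmoothOfRelativeDimension (n - 1) (Spec.map (CommRingCat.ofHom (algebraMap k (A ⧸ Ideal.span {h})))) ↔
      ∀ P : Ideal A, P.IsMaximal → ¬ Sing k P h := by
  classical
  haveI := CAlg76.SmoothRelDim.smooth_of_rel hA
  let R := A ⧸ Ideal.span {h}
  let π := KaehlerDifferential.mapBaseChange k A R
  have hπ : Function.Surjective π :=
    KaehlerDifferential.mapBaseChange_surjective k A R Ideal.Quotient.mk_surjective
  let c := LinearMap.toSpanSingleton R _ (dRestrict (k := k) h)
  have hex : Function.Exact c π := LinearMap.exact_iff.2 (range_toSpanSingleton_dRestrict h).symm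
  have hrank : ∀ q : PrimeSpectrum R, Module.rankAtStalk (R := R) (R ⊗[A] Ω[A⁄k]) q = n := fun q => by
    rw [Module.rankAtStalk_baseChange, CAlg76.SmoothRelDim.rankAtStalk_kaehler hA]
  constructor
  · intro hR P hP hsing
    haveI := CAlg76.SmoothRelDim.smooth_of_rel hR
    obtain ⟨hhP, hdP⟩ := hsing
    let q := P.map (algebraMap A R)
    have hker : RingHom.ker (algebraMap A R) ≤ P := by
      rw [Ideal.Quotient.algebraMap_eq, Ideal.mk_ker, Ideal.span_singleton_le_iff_mem]; exact hhP
    haveI : q.IsPrime := Ideal.map_isPrime_of_surjective Ideal.Quotient.mk_surjective hker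
    obtain ⟨s, hs⟩ := Module.projective_lifting_property π LinearMap.id hπ
    let p : (R ⊗[A] Ω[A⁄k]) →ₗ[R] (R ⊗[A] Ω[A⁄k]) := LinearMap.id - s ∘ₗ π
    let p' : (R ⊗[A] Ω[A⁄k]) →ₗ[R] LinearMap.ker π := LinearMap.codRestrict (LinearMap.ker π) p fun z => by
      have := LinearMap.congr_fun hs (π z)
      simp only [LinearMap.comp_apply, LinearMap.id_apply] at this
      simp [p, this]
    let e : (R ⊗[A] Ω[A⁄k]) ≃ₗ[R] (LinearMap.ker π × Ω[R⁄k]) :=
      LinearEquiv.ofLinearMap (LinearMap.prod p' π) ((LinearMap.ker π).subtype.coprod s)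
        (by
          refine LinearMap.ext fun z => Prod.ext (Subtype.ext ?_) ?_
          · have h1 := LinearMap.congr_fun hs z.2
            simp only [LinearMap.comp_apply, LinearMap.id_apply] at h1
            have h2 : π (z.1 : R ⊗[A] Ω[A⁄k]) = 0 := z.1.2
            simp [p', p, h1, h2]
          · have h1 := LinearMap.congr_fun hs z.2
            simp only [LinearMap.comp_apply, LinearMap.id_apply] at h1
            have h2 : π (z.1 : R ⊗[A] Ω[A⁄k]) = 0 := z.1.2
            simp [h1, h2])
        (by refine LinearMap.ext fun z => ?_; simp [p', p])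
    have hd' : dRestrict (k := k) h ∈ LinearMap.ker π := (range_toSpanSingleton_dRestrict h).le ⟨1, one_smul _ _⟩
    let e₀ : LinearMap.ker π := ⟨dRestrict h, hd'⟩
    have hgen : ∀ z : LinearMap.ker π, ∃ a : R, z = a • e₀ := fun z => by
      obtain ⟨a, ha⟩ := (range_toSpanSingleton_dRestrict (k := k) h).ge z.2
      exact ⟨a, Subtype.ext ha.symm⟩
    have he₀ : ∃ a ∈ q, e₀ = a • e₀ := by
      have h1 : dRestrict (k := k) h ∈ q • (⊤ : Submodule R (R ⊗[A] Ω[A⁄k])) := by
        rw [dRestrict]
        refine Submodule.smul_induction_on (p := fun w : Ω[A⁄k] => ((1 : R) ⊗ₜ[A] w) ∈ q • (⊤ : Submodule R (R ⊗[A] Ω[A⁄k]))) hdP ?_ ?_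
        · intro a ha w _
          show ((1 : R) ⊗ₜ[A] (a • w)) ∈ q • (⊤ : Submodule R (R ⊗[A] Ω[A⁄k]))
          rw [← smul_tmul, Algebra.smul_def, mul_one, show (algebraMap A R a) ⊗ₜ[A] w =
            algebraMap A R a • ((1 : R) ⊗ₜ[A] w) by rw [smul_tmul', smul_eq_mul, mul_one]]
          exact Submodule.smul_mem_smul (Ideal.mem_map_of_mem _ ha) Submodule.mem_top
        · intro a b ha hb; rw [tmul_add]; exact add_mem ha hb
      have h2 := Submodule.mem_map_of_mem (f := p') h1
      rw [Submodule.map_smul''] at h2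
      have h3 : p' (dRestrict h) = e₀ := Subtype.ext (by
        show p (dRestrict h) = dRestrict h
        simp [p, LinearMap.mem_ker.1 hd'])
      rw [h3] at h2
      have h4 : e₀ ∈ q • Submodule.span R {e₀} := by
        refine Submodule.smul_mono le_rfl ?_ h2
        intro z _
        obtain ⟨a, rfl⟩ := hgen z
        exact Submodule.smul_mem _ _ (Submodule.mem_span_singleton_self _)
      obtain ⟨a, ha, hae⟩ := Submodule.mem_smul_span_singleton.1 h4
      exact ⟨a, ha, hae.symm⟩
    obtain ⟨a, ha, hae⟩ := he₀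
    have h0 : Module.rankAtStalk (R := R) (LinearMap.ker π) ⟨q, inferInstance⟩ = 0 := by
      haveI : Subsingleton (LocalizedModule q.primeCompl (LinearMap.ker π)) := by
        rw [LocalizedModule.subsingleton_iff]
        intro z
        obtain ⟨b, rfl⟩ := hgen z
        refine ⟨1 - a, fun hm => (inferInstance : q.IsPrime).ne_top ((Ideal.eq_top_iff_one _).2 ?_), ?_⟩
        · simpa using add_mem hm ha
        · show (1 - a) • b • e₀ = 0
          have h5 : ((1 - a) • e₀ : LinearMap.ker π) = 0 := Subtype.ext (by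
            have h6 : dRestrict (k := k) h = a • dRestrict h := congrArg Subtype.val hae
            show (1 - a) • dRestrict (k := k) h = 0
            exact (sub_smul (1 : R) a (dRestrict (k := k) h)).trans ((congrArg₂ (· - ·) (one_smul R _) h6.symm).trans (sub_self _)))
          rw [smul_comm, h5, smul_zero]
      exact Module.finrank_zero_of_subsingleton
    haveI : Module.Projective R (LinearMap.ker π) :=
      Module.Projective.of_split (LinearMap.ker π).subtype p' (by
        refine LinearMap.ext fun z => Subtype.ext ?_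
        show p (z : R ⊗[A] Ω[A⁄k]) = z
        simp [p, LinearMap.mem_ker.1 z.2])
    haveI : Module.Finite R (LinearMap.ker π) := Module.Finite.of_surjective p' fun z =>
      ⟨z, Subtype.ext (by show p (z : R ⊗[A] Ω[A⁄k]) = z; simp [p, LinearMap.mem_ker.1 z.2])⟩
    have h1 := congrFun (Module.rankAtStalk_eq_of_equiv (R := R) (M := R ⊗[A] Ω[A⁄k]) (N := LinearMap.ker π × Ω[R⁄k]) e)
      (⟨q, inferInstance⟩ : PrimeSpectrum R)
    rw [Module.rankAtStalk_prod, Pi.add_apply, h0, hrank, CAlg76.SmoothRelDim.rankAtStalk_kaehler hR] at h1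
    omega
  · intro hns
    haveI : Algebra.FormallySmooth k R := BertiniPn.formallySmooth_quotient h fun P _ hP h0 => by
      obtain ⟨m, hm, hPm⟩ := Ideal.exists_le_maximal P (Ideal.IsPrime.ne_top ‹_›)
      refine hns m hm ⟨hPm hP, ?_⟩
      obtain ⟨N, f, hf⟩ := Module.Finite.exists_fin' A Ω[A⁄k]
      obtain ⟨g, hg⟩ := Module.projective_lifting_property f LinearMap.id hf
      rw [← LinearMap.id_apply (R := A) (KaehlerDifferential.D k A h), ← hg, LinearMap.comp_apply,
        pi_eq_sum_univ' (g (KaehlerDifferential.D k A h)), map_sum]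
      refine Submodule.sum_mem _ fun i _ => ?_
      rw [map_smul]
      refine Submodule.smul_mem_smul (hPm ?_) Submodule.mem_top
      have h2 := congrArg (fun z => TensorProduct.piScalarRight A A P.ResidueField (Fin N) (g.lTensor P.ResidueField z) i) h0
      simp only [LinearMap.lTensor_tmul, TensorProduct.piScalarRight_apply, TensorProduct.piScalarRightHom_tmul,
        map_zero, Pi.zero_apply, Algebra.smul_def, mul_one] at h2
      exact Ideal.algebraMap_residueField_eq_zero.1 h2
    haveI : Algebra.FinitePresentation k R := Algebra.FinitePresentation.of_finiteType.1 inferInstance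
    haveI : Algebra.Smooth k R := ⟨inferInstance, inferInstance⟩
    obtain ⟨ψ, hψ⟩ := exists_retraction h hns
    have hψc : ψ ∘ₗ c = LinearMap.id := LinearMap.ext_ring (by
      show ψ ((1 : R) • dRestrict (k := k) h) = 1
      rw [one_smul]; exact hψ)
    let e := (hex.splitInjectiveEquiv hπ ⟨ψ, hψc⟩).1
    refine smoothOfRelativeDimension_of_rank fun M hM => ?_
    haveI : Nontrivial R := ⟨0, 1, fun h01 => hM.ne_top ((Ideal.eq_top_iff_one _).2 (by rw [← h01]; exact M.zero_mem))⟩
    have h1 := congrFun (Module.rankAtStalk_eq_of_equiv (R := R) (M := R ⊗[A] Ω[A⁄k]) (N := R × Ω[R⁄k]) e)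
      (⟨M, hM.isPrime⟩ : PrimeSpectrum R)
    rw [Module.rankAtStalk_prod, Pi.add_apply, hrank, Module.rankAtStalk_self, Pi.one_apply] at h1
    exact (Nat.eq_sub_of_add_eq' h1.symm)

end Groth.Agent.LefHyp
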