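import Groth.Agent.LefHyp.Ideal
import Groth.Agent.LefHyp.Smooth
import Groth.Agent.BertiniPn.Section

/-!
# Transversality of a hypersurface section, on the standard charts

* `hF ι j G`: the form `G` over `X j ^ d` on the chart `U ι j`.
* `transversal_iff`: transversal iff no chart has a singular maximal ideal.
* `exists_point_transfer`: singular points do not depend on the chart.
-/

set_option autoImplicit false
set_option linter.style.haveILetI false

universe u

open CategoryTheory AlgebraicGeometry TopologicalSpace MvPolynomial TensorProduct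

noncomputable section

namespace Groth.Agent.LefHyp

open Groth.Agent.SepTang48 Groth.Agent.QCoh Groth.Agent.BertiniPn LefPen

section Sing

variable {k : Type u} [Field k] {A B : Type u} [CommRing A] [Algebra k A] [CommRing B] [Algebra k B]

theorem sing_unit_mul {P : Ideal A} {h w : A} (hw : IsUnit w) (hs : Sing k P (w * h)) : Sing k P h := by
  obtain ⟨u, rfl⟩ := hw
  have hh : h ∈ P := by
    have := P.mul_mem_left (↑u⁻¹ : A) hs.1
    rwa [← mul_assoc, Units.inv_mul, one_mul] at this
  refine ⟨hh, ?_⟩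
  have e : KaehlerDifferential.D k A h =
      (↑u⁻¹ : A) • (KaehlerDifferential.D k A (↑u * h) - h • KaehlerDifferential.D k A (↑u : A)) := by
    rw [Derivation.leibniz, add_sub_cancel_right, smul_smul, Units.inv_mul, one_smul]
  rw [e]
  exact Submodule.smul_mem _ _ (sub_mem hs.2 (Submodule.smul_mem_smul hh Submodule.mem_top))

/-- Singular points can be tested after an etale extension. -/
theorem sing_algebraMap_iff [Algebra A B] [IsScalarTower k A B] [Algebra.FormallyEtale A B]
    [Algebra.FormallySmooth k A] [Module.Finite A Ω[A⁄k]] (Q : Ideal B) (h : A) :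
    Sing k Q (algebraMap A B h) ↔ Sing k (Q.comap (algebraMap A B)) h := by
  classical
  constructor
  · rintro ⟨h1, h2⟩
    refine ⟨h1, ?_⟩
    obtain ⟨N, f, hf⟩ := Module.Finite.exists_fin' A Ω[A⁄k]
    obtain ⟨g, hg⟩ := Module.projective_lifting_property f LinearMap.id hf
    rw [← LinearMap.id_apply (R := A) (KaehlerDifferential.D k A h), ← hg, LinearMap.comp_apply,
      pi_eq_sum_univ' (g (KaehlerDifferential.D k A h)), map_sum]
    refine Submodule.sum_mem _ fun i _ => ?_
    rw [map_smul]
    refine Submodule.smul_mem_smul ?_ Submodule.mem_top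
    let bc := (KaehlerDifferential.isBaseChange_of_formallyEtale k A B).equiv
    let L : Ω[B⁄k] →ₗ[B] B := LinearMap.proj i ∘ₗ (TensorProduct.piScalarRight A B B (Fin N)).toLinearMap ∘ₗ
      g.baseChange B ∘ₗ bc.symm.toLinearMap
    have hbc : bc ((1 : B) ⊗ₜ[A] KaehlerDifferential.D k A h) = KaehlerDifferential.D k B (algebraMap A B h) := by
      simp [bc, IsBaseChange.equiv_tmul, KaehlerDifferential.map_D]
    have hL : L (KaehlerDifferential.D k B (algebraMap A B h)) =
        algebraMap A B (g (KaehlerDifferential.D k A h) i) := by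
      rw [← hbc]
      simp [L, Algebra.smul_def]
    show algebraMap A B (g (KaehlerDifferential.D k A h) i) ∈ Q
    rw [← hL]
    have := Submodule.mem_map_of_mem (f := L) h2
    rw [Submodule.map_smul''] at this
    exact Submodule.smul_le.2 (fun a ha b _ => Q.mul_mem_right b ha) this
  · rintro ⟨h1, h2⟩
    refine ⟨h1, ?_⟩
    rw [← KaehlerDifferential.map_D k k A B]
    refine Submodule.smul_induction_on
      (p := fun w => KaehlerDifferential.map k k A B w ∈ Q • (⊤ : Submodule B Ω[B⁄k])) h2 ?_ ?_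
    · intro a ha w _
      show KaehlerDifferential.map k k A B (a • w) ∈ Q • (⊤ : Submodule B Ω[B⁄k])
      rw [map_smul, ← algebraMap_smul B a]
      exact Submodule.smul_mem_smul (show algebraMap A B a ∈ Q from ha) Submodule.mem_top
    · intro a b ha hb; rw [map_add]; exact add_mem ha hb

end Sing

variable {k : Type u} [Field k] {r : ℕ} {X : Scheme.{u}} (ι : X ⟶ CohB1.ProjSpace r k)

instance algU (j : Fin (r + 1)) : Algebra k Γ(X, U ι j) := (uConst ι j).toAlgebra

/-- The affine coordinates on a chart. -/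
def coord (j l : Fin (r + 1)) : Γ(X, U ι j) := ι.app (D k r j) (ρ k r j l)

theorem coord_self (j : Fin (r + 1)) : coord ι j j = 1 := by simp [coord, ρ_self]

theorem aeval_coord_surjective [IsClosedImmersion ι] (j : Fin (r + 1)) :
    Function.Surjective (aeval (coord ι j) : MvPolynomial (Fin (r + 1)) k →ₐ[k] Γ(X, U ι j)) := fun a => by
  obtain ⟨b, rfl⟩ := ι.app_surjective (D k r j) (isAffineOpen_D k r j) a
  obtain ⟨Q, rfl⟩ := exists_eval₂ k r j b
  refine ⟨Q, ?_⟩
  rw [MvPolynomial.map_eval₂Hom]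
  rfl

/-- A form divided by `X j ^ d`, on the chart. -/
def hF (j : Fin (r + 1)) {d : ℕ} : Form r k d →ₗ[k] Γ(X, U ι j) :=
  (aeval (coord ι j)).toLinearMap ∘ₗ (CohB1.polyGrading r k d).subtype

theorem hF_eq (j : Fin (r + 1)) {d : ℕ} (G : Form r k d) : hF ι j G = ι.app (D k r j) (dehom G j) := by
  rw [dehom_eq_eval₂, MvPolynomial.map_eval₂Hom]
  rfl

variable [IsClosedImmersion ι] (n : ℕ) [hX : SmoothOfRelativeDimension n (ι ≫ CohB1.ProjSpace.toSpec r k)]

theorem fromSpec_toSpec (j : Fin (r + 1)) :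
    (isAffineOpen_U ι j).fromSpec ≫ ι ≫ CohB1.ProjSpace.toSpec r k =
      Spec.map (CommRingCat.ofHom (algebraMap k Γ(X, U ι j))) := by
  have h := IsAffineOpen.SpecMap_appLE_fromSpec (ι ≫ CohB1.ProjSpace.toSpec r k)
    (isAffineOpen_top (Spec (CommRingCat.of k))) (isAffineOpen_U ι j) le_top
  rw [← h, IsAffineOpen.fromSpec_top, Scheme.isoSpec_Spec_inv, ← Spec.map_comp]
  congr 1
  refine CommRingCat.hom_ext ?_
  rw [CommRingCat.hom_comp, CommRingCat.hom_ofHom]
  exact (uConst_eq ι j).symm

include hX in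
theorem smoothRelDim_chart (j : Fin (r + 1)) :
    SmoothOfRelativeDimension n (Spec.map (CommRingCat.ofHom (algebraMap k Γ(X, U ι j)))) := by
  rw [← fromSpec_toSpec]
  exact IsZariskiLocalAtSource.comp hX _

theorem sec_chart_map {d : ℕ} (G : Form r k d) (j : Fin (r + 1)) :
    (secIdeal ι ({G} : Set (Form r k d))).subschemeCover.f ⟨U ι j, isAffineOpen_U ι j⟩ ≫ secToSpec ι {G} =
      Spec.map (CommRingCat.ofHom (algebraMap k
        (Γ(X, U ι j) ⧸ (secIdeal ι ({G} : Set (Form r k d))).ideal ⟨U ι j, isAffineOpen_U ι j⟩))) := by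
  rw [secToSpec, secι, ← Category.assoc, Scheme.IdealSheafData.subschemeCover_map_subschemeι,
    Scheme.IdealSheafData.glueDataObjι]
  erw [Category.assoc, Category.assoc]
  refine Eq.trans (congrArg (Spec.map _ ≫ ·) (show _ = Spec.map (CommRingCat.ofHom (algebraMap k Γ(X, U ι j))) from
    ((Category.assoc _ _ _).symm.trans (fromSpec_toSpec ι j)))) ?_
  rw [← Spec.map_comp]
  rfl

theorem secIdeal_chart {d : ℕ} (G : Form r k d) (j : Fin (r + 1)) :
    (secIdeal ι ({G} : Set (Form r k d))).ideal ⟨U ι j, isAffineOpen_U ι j⟩ = Ideal.span {hF ι j G} := by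
  rw [secIdeal_singleton_ideal ι G j ⟨U ι j, isAffineOpen_U ι j⟩ le_rfl, hF_eq, Scheme.Hom.app_eq_appLE]

include hX in
/-- A section is transversal iff no chart has a singular maximal ideal. -/
theorem transversal_iff (hn : 1 ≤ n) {d : ℕ} (G : Form r k d) :
    Transversal k n 1 (secToSpec ι ({G} : Set (Form r k d))) ↔
      ∀ (j : Fin (r + 1)) (P : Ideal Γ(X, U ι j)), P.IsMaximal → ¬ Sing k P (hF ι j G) := by
  have h0 : Transversal k n 1 (secToSpec ι ({G} : Set (Form r k d))) ↔
      SmoothOfRelativeDimension (n - 1) (secToSpec ι ({G} : Set (Form r k d))) := by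
    refine ⟨fun h => ?_, fun h => Or.inl ⟨hn, h⟩⟩
    rcases h with h | h
    · exact h.2
    · omega
  rw [h0]
  set I := secIdeal ι ({G} : Set (Form r k d)) with hI
  let V : Fin (r + 1) → X.affineOpens := fun j => ⟨U ι j, isAffineOpen_U ι j⟩
  have hcov : ⨆ j, (I.subschemeCover.f (V j)).opensRange = ⊤ := by
    simp only [Scheme.IdealSheafData.opensRange_subschemeCover_map]
    rw [← Scheme.Hom.preimage_iSup]
    simp only [V, BertiniPn.U]
    rw [← Scheme.Hom.preimage_iSup, iSup_D]
    rfl
  have hloc : ∀ j, SmoothOfRelativeDimension (n - 1)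
      ((I.subschemeCover.f (V j)).opensRange.ι ≫ secToSpec ι ({G} : Set (Form r k d))) ↔
        ∀ P : Ideal Γ(X, U ι j), P.IsMaximal → ¬ Sing k P (hF ι j G) := by
    intro j
    rw [← MorphismProperty.cancel_left_of_respectsIso (P := @SmoothOfRelativeDimension (n - 1))
      (I.subschemeCover.f (V j)).isoOpensRange.hom, ← Category.assoc, Scheme.Hom.isoOpensRange_hom_ι]
    rw [show (I.subschemeCover.f (V j)) ≫ secToSpec ι ({G} : Set (Form r k d)) = _ from sec_chart_map ι G j]
    have key : ∀ J : Ideal Γ(X, U ι j), J = Ideal.span {hF ι j G} →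
        (SmoothOfRelativeDimension (n - 1) (Spec.map (CommRingCat.ofHom (algebraMap k (Γ(X, U ι j) ⧸ J)))) ↔
          ∀ P : Ideal Γ(X, U ι j), P.IsMaximal → ¬ Sing k P (hF ι j G)) := by
      rintro J rfl
      exact smoothOfRelativeDimension_quotient_iff _ hn (smoothRelDim_chart ι n j)
    exact key _ (secIdeal_chart ι G j)
  rw [IsZariskiLocalAtSource.iff_of_iSup_eq_top (P := @SmoothOfRelativeDimension (n - 1)) _ hcov]
  exact forall_congr' hloc

include hX in
/-- Singular points do not depend on the chart. -/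
theorem exists_point_transfer (i j : Fin (r + 1)) (φ : Γ(X, U ι j) →ₐ[k] k) (hi : φ (coord ι j i) ≠ 0) :
    ∃ ψ : Γ(X, U ι i) →ₐ[k] k, (∀ l, φ (coord ι j l) = φ (coord ι j i) * ψ (coord ι i l)) ∧
      ∀ {d : ℕ} (G : Form r k d), Sing k (RingHom.ker φ) (hF ι j G) → Sing k (RingHom.ker ψ) (hF ι i G) := by
  let W : X.Opens := U ι i ⊓ U ι j
  let B := Γ(X, W)
  let ai : Γ(X, U ι i) →+* B := (rres (inf_le_left : W ≤ U ι i)).hom
  let aj : Γ(X, U ι j) →+* B := (rres (inf_le_right : W ≤ U ι j)).hom
  have hconst : ai.comp (uConst ι i) = aj.comp (uConst ι j) := by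
    rw [uConst_eq, uConst_eq, ← RingHom.comp_assoc, ← RingHom.comp_assoc]
    congr 1
    simp only [ai, aj, ← CommRingCat.hom_comp, rres, Scheme.Hom.appLE_map]
  letI : Algebra k B := (aj.comp (uConst ι j)).toAlgebra
  letI : Algebra Γ(X, U ι j) B := aj.toAlgebra
  haveI : IsScalarTower k Γ(X, U ι j) B := IsScalarTower.of_algebraMap_eq fun _ => rfl
  letI : Algebra Γ(X, U ι i) B := ai.toAlgebra
  haveI : IsScalarTower k Γ(X, U ι i) B := IsScalarTower.of_algebraMap_eq fun c => (RingHom.congr_fun hconst c).symm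
  have hWj : W = X.basicOpen (coord ι j i) := by
    rw [coord, ← Scheme.preimage_basicOpen, basicOpen_ρ, Scheme.Hom.preimage_inf, inf_comm]
  have hWi : W = X.basicOpen (coord ι i j) := by
    rw [coord, ← Scheme.preimage_basicOpen, basicOpen_ρ, Scheme.Hom.preimage_inf]
  haveI : IsLocalization.Away (coord ι j i) B :=
    (isAffineOpen_U ι j).isLocalization_of_eq_basicOpen _ (homOfLE inf_le_right) hWj
  haveI : IsLocalization.Away (coord ι i j) B :=
    (isAffineOpen_U ι i).isLocalization_of_eq_basicOpen _ (homOfLE inf_le_left) hWi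
  haveI : Algebra.FormallyEtale Γ(X, U ι j) B :=
    Algebra.FormallyEtale.of_isLocalization (Submonoid.powers (coord ι j i))
  haveI : Algebra.FormallyEtale Γ(X, U ι i) B :=
    Algebra.FormallyEtale.of_isLocalization (Submonoid.powers (coord ι i j))
  haveI := CAlg76.SmoothRelDim.smooth_of_rel (smoothRelDim_chart ι n j)
  haveI := CAlg76.SmoothRelDim.smooth_of_rel (smoothRelDim_chart ι n i)
  let χ : B →ₐ[k] k := IsLocalization.liftAlgHom (M := Submonoid.powers (coord ι j i)) (f := φ) (by
    rintro ⟨_, m, rfl⟩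
    rw [map_pow]
    exact (isUnit_iff_ne_zero.2 hi).pow m)
  have hχ : ∀ a, χ (algebraMap Γ(X, U ι j) B a) = φ a := fun a => by simp [χ]
  let ψ : Γ(X, U ι i) →ₐ[k] k := χ.comp (IsScalarTower.toAlgHom k Γ(X, U ι i) B)
  let D2 : (CohB1.ProjSpace r k).Opens := D k r i ⊓ D k r j
  let m2 : Γ(CohB1.ProjSpace r k, D2) →+* B :=
    (ι.appLE D2 W (le_inf inf_le_left inf_le_right)).hom
  have hm : ∀ (a : Fin (r + 1)) (ha : D2 ≤ D k r a) (h : W ≤ U ι a) (b : Γ(CohB1.ProjSpace r k, D k r a)),
      rres h (ι.app (D k r a) b) = m2 (rres ha b) := by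
    intro a ha h b
    show _ = ((CohB1.ProjSpace r k).presheaf.map (homOfLE ha).op ≫ ι.appLE D2 W _) b
    rw [Scheme.Hom.map_appLE]
    rfl
  refine ⟨ψ, fun l => ?_, fun {d} G hs => ?_⟩
  · have e : algebraMap Γ(X, U ι j) B (coord ι j l) =
        algebraMap Γ(X, U ι j) B (coord ι j i) * algebraMap Γ(X, U ι i) B (coord ι i l) := by
      simp only [RingHom.algebraMap_toAlgebra]
      show aj _ = aj _ * ai _
      simp only [aj, ai, coord, hm j inf_le_right, hm i inf_le_left, ← map_mul]
      congr 1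
      exact rres_ρ_mul i j l _ _ _
    have := congrArg χ e
    rw [map_mul, hχ, hχ] at this
    exact this
  · have e : algebraMap Γ(X, U ι j) B (hF ι j G) =
        algebraMap Γ(X, U ι j) B (coord ι j i) ^ d * algebraMap Γ(X, U ι i) B (hF ι i G) := by
      simp only [RingHom.algebraMap_toAlgebra, hF_eq]
      show aj _ = aj _ ^ d * ai _
      simp only [aj, ai, coord, hm j inf_le_right, hm i inf_le_left, ← map_pow, ← map_mul]
      congr 1
      exact rres_dehom G i j _ _ _
    have hs' : Sing k (RingHom.ker χ) (algebraMap Γ(X, U ι j) B (hF ι j G)) := by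
      rw [sing_algebraMap_iff]
      have : (RingHom.ker χ).comap (algebraMap Γ(X, U ι j) B) = RingHom.ker φ := by
        ext a; simp [RingHom.mem_ker, hχ]
      rwa [this]
    rw [e] at hs'
    have hu : IsUnit (algebraMap Γ(X, U ι j) B (coord ι j i) ^ d) :=
      (IsLocalization.Away.algebraMap_isUnit (coord ι j i)).pow d
    have := (sing_algebraMap_iff _ _).1 (sing_unit_mul hu hs')
    have h2 : (RingHom.ker χ).comap (algebraMap Γ(X, U ι i) B) = RingHom.ker ψ := by
      ext a; simp [RingHom.mem_ker, ψ]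
    rwa [h2] at this

end Groth.Agent.LefHyp
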