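import Groth.Agent.LefHyp.Charts
import Groth.Agent.GenericFibre.Basic
import Mathlib.RingTheory.Nullstellensatz
import Mathlib.RingTheory.Jacobson.Ring

/-!
# First order jets of forms on a chart

Forms are parametrised by coefficient vectors `v : Mon → k`, `Mon = Fin d → Fin (r + 1)`.

* `jetMap`: a coefficient vector to (value, differential) on the chart; surjective, with section `jetSec`.
* `sing_iff`: singularity at a rational point is linear in the coefficients (`jetCoord`).
* `Van`: a polynomial vanishes on all the singular forms of a chart, as an identity on the chart.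
-/

set_option autoImplicit false
set_option linter.style.haveILetI false

universe u

open CategoryTheory AlgebraicGeometry TopologicalSpace MvPolynomial TensorProduct

noncomputable section

namespace Groth.Agent.LefHyp

open Groth.Agent.SepTang48 Groth.Agent.QCoh Groth.Agent.BertiniPn LefPen

variable (k : Type u) [Field k] (r d : ℕ)

/-- The coefficient index. -/
abbrev Tup : Type := Fin d → Fin (r + 1)

/-- The form with coefficients `v`. -/
def formMap : (Tup r d → k) →ₗ[k] Form r k d :=
  LinearMap.codRestrict (CohB1.polyGrading r k d)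
    (Fintype.linearCombination k fun t : Tup r d => (∏ i, X (t i) : MvPolynomial (Fin (r + 1)) k))
    fun v => by
      rw [Fintype.linearCombination_apply]
      refine (CohB1.polyGrading r k d).sum_mem fun t _ => Submodule.smul_mem _ _ ?_
      refine (mem_homogeneousSubmodule _ _).2 ?_
      simpa using IsHomogeneous.prod (R := k) Finset.univ (fun i => X (t i)) (fun _ => 1)
        fun i _ => isHomogeneous_X k (t i)

theorem formMap_surjective : Function.Surjective (formMap k r d) := by
  classical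
  rintro ⟨G, hG⟩
  have hmem : G ∈ Submodule.span k (Set.range fun t : Tup r d => (∏ i, X (t i) : MvPolynomial (Fin (r + 1)) k)) := by
    rw [← G.support_sum_monomial_coeff]
    refine Submodule.sum_mem _ fun m hm => ?_
    rw [show monomial m (coeff m G) = coeff m G • monomial m (1 : k) by simp [smul_monomial]]
    refine Submodule.smul_mem _ _ (Submodule.subset_span ?_)
    have hdeg : m.toMultiset.toList.length = d := by
      rw [Multiset.length_toList, Finsupp.card_toMultiset, Finsupp.sum]
      have := ((mem_homogeneousSubmodule _ _).1 hG).degree_eq_sum_deg_support hm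
      exact this.symm
    refine ⟨fun i => m.toMultiset.toList.get (i.cast hdeg.symm), ?_⟩
    change ∏ i : Fin d, X (m.toMultiset.toList.get (i.cast hdeg.symm)) = _
    refine (Fintype.prod_equiv (finCongr hdeg.symm) _
        (fun i => (X (m.toMultiset.toList.get i) : MvPolynomial (Fin (r + 1)) k)) (fun _ => rfl)).trans ?_
    rw [← List.prod_ofFn]
    rw [show (List.ofFn fun x => (X (m.toMultiset.toList.get x) : MvPolynomial (Fin (r + 1)) k)) = m.toMultiset.toList.map X by
      rw [← Function.comp_def X, ← List.map_ofFn, List.ofFn_get]]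
    rw [← Multiset.prod_coe, ← Multiset.map_coe, Multiset.coe_toList, monomial_eq, C_1, one_mul,
      Finsupp.prod, Finset.prod_multiset_map_count, Finsupp.toFinset_toMultiset]
    exact Finset.prod_congr rfl fun l _ => by rw [Finsupp.count_toMultiset]
  obtain ⟨v, hv⟩ := (Submodule.mem_span_range_iff_exists_fun k).1 hmem
  exact ⟨v, Subtype.ext ((Fintype.linearCombination_apply k _ v).trans hv)⟩

variable {k r d} {X : Scheme.{u}} (ι : X ⟶ CohB1.ProjSpace r k) (j : Fin (r + 1))

/-- The monomial `t` on the chart. -/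
def monVal (t : Tup r d) : Γ(X, U ι j) := ∏ i, coord ι j (t i)

theorem hF_formMap (v : Tup r d → k) :
    hF ι j (formMap k r d v) = ∑ t, algebraMap k Γ(X, U ι j) (v t) * monVal ι j t := by
  show aeval (coord ι j) (Fintype.linearCombination k _ v) = _
  simp only [Fintype.linearCombination_apply, monVal, map_sum, map_smul, map_prod, aeval_X, Algebra.smul_def, map_mul, AlgHom.commutes]

/-- Value and differential of the combination of the monomials. -/
def jetMap : (Tup r d → Γ(X, U ι j)) →ₗ[Γ(X, U ι j)] Γ(X, U ι j) × Ω[Γ(X, U ι j)⁄k] :=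
  Fintype.linearCombination Γ(X, U ι j) fun t => (monVal ι j t, KaehlerDifferential.D k _ (monVal ι j t))

theorem jetMap_const (v : Tup r d → k) :
    jetMap ι j (fun t => algebraMap k Γ(X, U ι j) (v t)) =
      (hF ι j (formMap k r d v), KaehlerDifferential.D k _ (hF ι j (formMap k r d v))) := by
  rw [hF_formMap, jetMap, Fintype.linearCombination_apply]
  refine Prod.ext ?_ ?_
  · simp only [Prod.fst_sum, Prod.smul_fst, smul_eq_mul]
  · simp [Prod.snd_sum, Derivation.leibniz]

theorem jetMap_surjective [IsClosedImmersion ι] (hd : 0 < d) : Function.Surjective (jetMap (d := d) ι j) := by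
  classical
  rw [← LinearMap.range_eq_top, jetMap, Fintype.range_linearCombination]
  set S := Submodule.span Γ(X, U ι j) (Set.range fun t : Tup r d => (monVal ι j t, KaehlerDifferential.D k Γ(X, U ι j) (monVal ι j t)))
  have hmon : ∀ l, ((coord ι j l, KaehlerDifferential.D k Γ(X, U ι j) (coord ι j l)) : Γ(X, U ι j) × Ω[Γ(X, U ι j)⁄k]) ∈ S := by
    intro l
    refine Submodule.subset_span ⟨Function.update (fun _ => j) ⟨0, hd⟩ l, ?_⟩
    have : monVal ι j (Function.update (fun _ => j) (⟨0, hd⟩ : Fin d) l) = coord ι j l := by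
      rw [monVal, Finset.prod_eq_single (⟨0, hd⟩ : Fin d)]
      · rw [Function.update_self]
      · intro i _ hi; rw [Function.update_of_ne hi, coord_self]
      · intro h; exact absurd (Finset.mem_univ _) h
    simp only [this]
  have hone : ((1 : Γ(X, U ι j)), (0 : Ω[Γ(X, U ι j)⁄k])) ∈ S := by simpa [coord_self] using hmon j
  have hD : ∀ w : Ω[Γ(X, U ι j)⁄k], ((0 : Γ(X, U ι j)), w) ∈ S := fun w => by
    have hle : (⊤ : Submodule Γ(X, U ι j) Ω[Γ(X, U ι j)⁄k]) ≤ S.comap (LinearMap.inr Γ(X, U ι j) Γ(X, U ι j) Ω[Γ(X, U ι j)⁄k]) := by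
      rw [← span_D_of_surjective (coord ι j) (aeval_coord_surjective ι j), Submodule.span_le]
      rintro _ ⟨l, rfl⟩
      have : ((0 : Γ(X, U ι j)), KaehlerDifferential.D k Γ(X, U ι j) (coord ι j l)) =
          (coord ι j l, KaehlerDifferential.D k Γ(X, U ι j) (coord ι j l)) - coord ι j l • ((1 : Γ(X, U ι j)), (0 : Ω[Γ(X, U ι j)⁄k])) := by
        ext <;> simp
      show ((0 : Γ(X, U ι j)), KaehlerDifferential.D k Γ(X, U ι j) (coord ι j l)) ∈ S
      rw [this]
      exact sub_mem (hmon l) (S.smul_mem _ hone)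
    exact hle Submodule.mem_top
  refine eq_top_iff.2 fun z _ => ?_
  rw [show z = z.1 • ((1 : Γ(X, U ι j)), (0 : Ω[Γ(X, U ι j)⁄k])) + ((0 : Γ(X, U ι j)), z.2) by ext <;> simp]
  exact add_mem (S.smul_mem _ hone) (hD _)

theorem sing_iff_mem (P : Ideal Γ(X, U ι j)) (v : Tup r d → k) :
    Sing k P (hF ι j (formMap k r d v)) ↔
      jetMap ι j (fun t => algebraMap k Γ(X, U ι j) (v t)) ∈
        P • (⊤ : Submodule Γ(X, U ι j) (Γ(X, U ι j) × Ω[Γ(X, U ι j)⁄k])) := by
  rw [jetMap_const]
  constructor
  · rintro ⟨h1, h2⟩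
    have e1 := Submodule.mem_map_of_mem (f := LinearMap.inr Γ(X, U ι j) Γ(X, U ι j) Ω[Γ(X, U ι j)⁄k]) h2
    rw [Submodule.map_smul''] at e1
    have e2 : ((hF ι j (formMap k r d v), (0 : Ω[Γ(X, U ι j)⁄k])) : Γ(X, U ι j) × Ω[Γ(X, U ι j)⁄k]) ∈ P • (⊤ : Submodule Γ(X, U ι j) (Γ(X, U ι j) × Ω[Γ(X, U ι j)⁄k])) := by
      rw [show ((hF ι j (formMap k r d v), (0 : Ω[Γ(X, U ι j)⁄k])) : Γ(X, U ι j) × Ω[Γ(X, U ι j)⁄k]) = hF ι j (formMap k r d v) • ((1 : Γ(X, U ι j)), (0 : Ω[Γ(X, U ι j)⁄k])) by
        ext <;> simp]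
      exact Submodule.smul_mem_smul h1 Submodule.mem_top
    have := add_mem e2 (Submodule.smul_mono le_rfl le_top e1)
    simpa using this
  · intro h
    have e1 := Submodule.mem_map_of_mem (f := LinearMap.fst Γ(X, U ι j) Γ(X, U ι j) Ω[Γ(X, U ι j)⁄k]) h
    have e2 := Submodule.mem_map_of_mem (f := LinearMap.snd Γ(X, U ι j) Γ(X, U ι j) Ω[Γ(X, U ι j)⁄k]) h
    rw [Submodule.map_smul''] at e1 e2
    exact ⟨Ideal.mul_le_right (I := Submodule.map (LinearMap.fst Γ(X, U ι j) Γ(X, U ι j) Ω[Γ(X, U ι j)⁄k]) ⊤) (by rw [Ideal.mul_comm]; exact e1),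
      Submodule.smul_mono le_rfl le_top e2⟩

variable [IsClosedImmersion ι] (n : ℕ) [hX : SmoothOfRelativeDimension n (ι ≫ CohB1.ProjSpace.toSpec r k)]

include hX in
theorem exists_jetSec (hd : 0 < d) :
    ∃ s : (Γ(X, U ι j) × Ω[Γ(X, U ι j)⁄k]) →ₗ[Γ(X, U ι j)] (Tup r d → Γ(X, U ι j)),
      jetMap ι j ∘ₗ s = LinearMap.id := by
  haveI := CAlg76.SmoothRelDim.smooth_of_rel (smoothRelDim_chart ι n j)
  exact Module.projective_lifting_property _ LinearMap.id (jetMap_surjective ι j hd)

/-- A section of `jetMap`. -/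
def jetSec (hd : 0 < d) : (Γ(X, U ι j) × Ω[Γ(X, U ι j)⁄k]) →ₗ[Γ(X, U ι j)] (Tup r d → Γ(X, U ι j)) :=
  (exists_jetSec (hX := hX) ι j n hd).choose

include hX in
theorem jetMap_jetSec (hd : 0 < d) (z : Γ(X, U ι j) × Ω[Γ(X, U ι j)⁄k]) :
    jetMap ι j (jetSec (hX := hX) ι j n hd z) = z :=
  LinearMap.congr_fun (exists_jetSec (hX := hX) ι j n hd).choose_spec z

/-- The matrix of the projection of coefficient vectors to jets. -/
def jetCoeff (hd : 0 < d) (t s : Tup r d) : Γ(X, U ι j) :=
  jetSec (hX := hX) ι j n hd (jetMap ι j (Pi.single s 1)) t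

include hX in
theorem jetSec_jetMap_apply (hd : 0 < d) (c : Tup r d → Γ(X, U ι j)) (t : Tup r d) :
    jetSec (hX := hX) ι j n hd (jetMap ι j c) t = ∑ s, c s * jetCoeff (hX := hX) ι j n hd t s := by
  classical
  conv_lhs => rw [pi_eq_sum_univ' c]
  simp only [map_sum, map_smul, Finset.sum_apply, Pi.smul_apply, smul_eq_mul, jetCoeff]

include hX in
/-- Singularity is linear in the coefficients. -/
theorem sing_iff (hd : 0 < d) (P : Ideal Γ(X, U ι j)) (v : Tup r d → k) :
    Sing k P (hF ι j (formMap k r d v)) ↔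
      ∀ t, ∑ s, algebraMap k Γ(X, U ι j) (v s) * jetCoeff (hX := hX) ι j n hd t s ∈ P := by
  classical
  rw [sing_iff_mem]
  constructor
  · intro h t
    rw [← jetSec_jetMap_apply]
    have := Submodule.mem_map_of_mem (f := (LinearMap.proj t).comp (jetSec (hX := hX) ι j n hd)) h
    rw [Submodule.map_smul''] at this
    exact Submodule.smul_le.2 (fun a ha b _ => P.mul_mem_right b ha) this
  · intro h
    rw [← jetMap_jetSec (hX := hX) ι j n hd (jetMap ι j fun t => algebraMap k Γ(X, U ι j) (v t))]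
    have : jetSec (hX := hX) ι j n hd (jetMap ι j fun t => algebraMap k Γ(X, U ι j) (v t)) ∈
        P • (⊤ : Submodule Γ(X, U ι j) (Tup r d → Γ(X, U ι j))) := by
      rw [pi_eq_sum_univ' (jetSec (hX := hX) ι j n hd (jetMap ι j fun t => algebraMap k Γ(X, U ι j) (v t)))]
      refine Submodule.sum_mem _ fun t _ => Submodule.smul_mem_smul ?_ Submodule.mem_top
      rw [jetSec_jetMap_apply]
      exact h t
    have h2 := Submodule.mem_map_of_mem (f := jetMap ι j) this
    rw [Submodule.map_smul''] at h2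
    exact Submodule.smul_mono le_rfl le_top h2

include hX in
/-- Projecting a coefficient vector to the singular forms at a point. -/
theorem sing_proj (hd : 0 < d) (φ : Γ(X, U ι j) →ₐ[k] k) (v : Tup r d → k) :
    Sing k (RingHom.ker φ) (hF ι j (formMap k r d fun t =>
      v t - ∑ s, v s * φ (jetCoeff (hX := hX) ι j n hd t s))) := by
  classical
  rw [sing_iff (hX := hX) ι j n hd]
  intro t
  set M := jetCoeff (hX := hX) ι j n hd
  rw [RingHom.mem_ker, map_sum]
  have hidem : ∀ s, ∑ s', φ (M s' s) * φ (M t s') = φ (M t s) := by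
    intro s
    have h1 := jetSec_jetMap_apply (hX := hX) ι j n hd (jetSec (hX := hX) ι j n hd (jetMap ι j (Pi.single s 1))) t
    rw [jetMap_jetSec] at h1
    have h2 := congrArg φ h1
    rw [map_sum] at h2
    simp only [map_mul] at h2
    exact h2.symm
  simp only [map_mul, AlgHom.commutes, Algebra.algebraMap_self, RingHom.id_apply, sub_mul, Finset.sum_sub_distrib,
    Finset.sum_mul]
  rw [sub_eq_zero, Finset.sum_comm]
  refine Finset.sum_congr rfl fun s _ => ?_
  rw [← hidem s, Finset.mul_sum]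
  exact Finset.sum_congr rfl fun s' _ => (mul_assoc _ _ _).symm

/-- `q` on the projection to singular forms, over the chart. -/
def pullJet (hd : 0 < d) : MvPolynomial (Tup r d) k →+* MvPolynomial (Tup r d) Γ(X, U ι j) :=
  eval₂Hom (C.comp (algebraMap k Γ(X, U ι j)))
    fun t => MvPolynomial.X t - ∑ s, MvPolynomial.X s * C (jetCoeff (hX := hX) ι j n hd t s)

include hX in
theorem eval_map_pullJet (hd : 0 < d) (φ : Γ(X, U ι j) →ₐ[k] k) (q : MvPolynomial (Tup r d) k)
    (v : Tup r d → k) :
    eval v (MvPolynomial.map φ.toRingHom (pullJet (hX := hX) ι j n hd q)) =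
      eval (fun t => v t - ∑ s, v s * φ (jetCoeff (hX := hX) ι j n hd t s)) q := by
  have : ((eval v).comp ((MvPolynomial.map φ.toRingHom).comp (pullJet (hX := hX) ι j n hd))) =
      eval (fun t => v t - ∑ s, v s * φ (jetCoeff (hX := hX) ι j n hd t s)) := by
    refine ringHom_ext (fun c => ?_) (fun t => ?_)
    · simp [pullJet]
    · simp [pullJet, map_sum]
  exact RingHom.congr_fun this q

/-- `q` vanishes on all singular forms of the chart. -/
def Van (hd : 0 < d) (q : MvPolynomial (Tup r d) k) : Prop :=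
  ∀ m, coeff m (pullJet (hX := hX) ι j n hd q) ∈ nilradical Γ(X, U ι j)

include hX in
theorem Van.eval_eq_zero {hd : 0 < d} {q : MvPolynomial (Tup r d) k} (h : Van (hX := hX) ι j n hd q)
    (φ : Γ(X, U ι j) →ₐ[k] k) (v : Tup r d → k) (hv : Sing k (RingHom.ker φ) (hF ι j (formMap k r d v))) :
    eval v q = 0 := by
  have h1 := eval_map_pullJet (hX := hX) ι j n hd φ q v
  have h2 : (fun t => v t - ∑ s, v s * φ (jetCoeff (hX := hX) ι j n hd t s)) = v := by
    funext t
    have := RingHom.mem_ker.1 ((sing_iff (hX := hX) ι j n hd _ v).1 hv t)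
    simp only [map_sum, map_mul, AlgHom.commutes, Algebra.algebraMap_self, RingHom.id_apply] at this
    rw [this, sub_zero]
  rw [h2] at h1
  rw [← h1, show MvPolynomial.map φ.toRingHom (pullJet (hX := hX) ι j n hd q) = 0 from MvPolynomial.ext _ _ fun m => by
    rw [coeff_map, coeff_zero]
    exact IsNilpotent.eq_zero (IsNilpotent.map (show IsNilpotent _ from h m) φ.toRingHom)]
  exact map_zero _

variable [IsAlgClosed k]

theorem exists_point (P : Ideal Γ(X, U ι j)) [P.IsMaximal] :
    ∃ φ : Γ(X, U ι j) →ₐ[k] k, RingHom.ker φ = P := by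
  letI := Ideal.Quotient.field P
  haveI : Algebra.FiniteType k Γ(X, U ι j) := Algebra.FiniteType.of_surjective (aeval (coord ι j))
    (aeval_coord_surjective ι j)
  haveI : Algebra.FiniteType k (Γ(X, U ι j) ⧸ P) :=
    Algebra.FiniteType.of_surjective (Ideal.Quotient.mkₐ k P) Ideal.Quotient.mk_surjective
  haveI : Module.Finite k (Γ(X, U ι j) ⧸ P) := finite_of_finite_type_of_isJacobsonRing k _
  let e := AlgEquiv.ofBijective (Algebra.ofId k (Γ(X, U ι j) ⧸ P)) IsAlgClosed.algebraMap_bijective_of_isIntegral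
  refine ⟨e.symm.toAlgHom.comp (Ideal.Quotient.mkₐ k P), ?_⟩
  ext a
  simp [RingHom.mem_ker, Ideal.Quotient.eq_zero_iff_mem]

theorem mem_nilradical_of_forall (a : Γ(X, U ι j)) (h : ∀ φ : Γ(X, U ι j) →ₐ[k] k, φ a = 0) :
    a ∈ nilradical Γ(X, U ι j) := by
  haveI : Algebra.FiniteType k Γ(X, U ι j) := Algebra.FiniteType.of_surjective (aeval (coord ι j))
    (aeval_coord_surjective ι j)
  haveI : IsJacobsonRing Γ(X, U ι j) := isJacobsonRing_of_finiteType (A := k)
  rw [nilradical, Ideal.zero_eq_bot, Ideal.radical_eq_jacobson]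
  refine Ideal.mem_sInf.2 fun {P} hP => ?_
  haveI := hP.2
  obtain ⟨φ, hφ⟩ := exists_point ι j P
  rw [← hφ]
  exact h φ

theorem isPrime_nilradical_chart [IrreducibleSpace X] (hj : (U ι j : Set X).Nonempty) :
    (nilradical Γ(X, U ι j)).IsPrime := by
  rw [← PrimeSpectrum.irreducibleSpace_iff_isPrime_nilradical]
  haveI : IrreducibleSpace (U ι j : Scheme.{u}) :=
    Subtype.irreducibleSpace ⟨hj, (IrreducibleSpace.isIrreducible_univ X).isPreirreducible.open_subset (U ι j).2 (Set.subset_univ _)⟩
  exact (Scheme.homeoOfIso (isAffineOpen_U ι j).isoSpec).symm.irreducibleSpace_iff.2 inferInstance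

end Groth.Agent.LefHyp
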