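import Groth.Agent.LefHyp.Jet
import Groth.Agent.BertiniPn.Jets

/-!
# The forms cutting a smooth projective variety non-transversally

* `exists_transversal`: some form cuts transversally.
* `irreducible_nonTransversal`: the non-transversal forms form an irreducible set.
* `isZOpen_transversal`: the transversal forms form an open set.
-/

set_option autoImplicit false
set_option linter.style.haveILetI false

universe u

open CategoryTheory AlgebraicGeometry TopologicalSpace MvPolynomial TensorProduct

noncomputable section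

namespace Groth.Agent.LefHyp

open Groth.Agent.SepTang48 Groth.Agent.QCoh Groth.Agent.BertiniPn LefPen

variable {k : Type u} [Field k] [IsAlgClosed k] {r d n : ℕ} {X : Scheme.{u}}
  (ι : X ⟶ CohB1.ProjSpace r k) [IsClosedImmersion ι]
  [hX : SmoothOfRelativeDimension n (ι ≫ CohB1.ProjSpace.toSpec r k)]

include hX in
theorem transversal_iff_points (hn : 1 ≤ n) (G : Form r k d) :
    Transversal k n 1 (secToSpec ι ({G} : Set (Form r k d))) ↔
      ∀ (j : Fin (r + 1)) (φ : Γ(X, U ι j) →ₐ[k] k), ¬ Sing k (RingHom.ker φ) (hF ι j G) := by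
  rw [transversal_iff ι n hn G]
  refine forall_congr' fun j => ⟨fun h φ => h _ (RingHom.ker_isMaximal_of_surjective φ fun c => ⟨algebraMap k _ c, φ.commutes c⟩),
    fun h P hP => ?_⟩
  obtain ⟨φ, hφ⟩ := exists_point ι j P
  rw [← hφ]
  exact h φ

include hX in
/-- Bertini: general forms cut transversally. -/
theorem exists_transversal (hn : 1 ≤ n) (hd : 0 < d) :
    ∃ G : Form r k d, Transversal k n 1 (secToSpec ι ({G} : Set (Form r k d))) := by
  classical
  let e := (Fintype.equivFin (Tup r d)).symm
  have H : ∀ j : Fin (r + 1), ∃ g : MvPolynomial (Tup r d) k, g ≠ 0 ∧ ∀ v, eval v g ≠ 0 →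
      ∀ φ : Γ(X, U ι j) →ₐ[k] k, ¬ Sing k (RingHom.ker φ) (hF ι j (formMap k r d v)) := by
    intro j
    let A := Γ(X, U ι j)
    haveI : Algebra.FiniteType k Γ(X, U ι j) := Algebra.FiniteType.of_surjective (aeval (coord ι j))
      (aeval_coord_surjective ι j)
    haveI := CAlg76.SmoothRelDim.smooth_of_rel (smoothRelDim_chart ι n j)
    let m : Tup r d → Γ(X, U ι j) × Ω[Γ(X, U ι j)⁄k] :=
      fun t => (monVal ι j t, KaehlerDifferential.D k _ (monVal ι j t))
    have hspan : Submodule.span Γ(X, U ι j) (Set.range (m ∘ e)) = ⊤ := by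
      rw [EquivLike.range_comp]
      refine (Fintype.range_linearCombination _ _).symm.trans ?_
      exact LinearMap.range_eq_top.2 (jetMap_surjective ι j hd)
    obtain ⟨g, hg0, hg⟩ := exists_poly_nonvanishing (k := k) (0 : Γ(X, U ι j) × Ω[Γ(X, U ι j)⁄k]) (m ∘ e) hspan
      (fun P _ t ht => by
        have htr := Omega.RankDim.trdeg_le_rank k P t ht
        rw [(TensorProduct.prodRight Γ(X, U ι j) P.ResidueField P.ResidueField Γ(X, U ι j) Ω[Γ(X, U ι j)⁄k]).finrank_eq,
          Module.finrank_prod,
          (TensorProduct.AlgebraTensorModule.rid Γ(X, U ι j) P.ResidueField P.ResidueField).finrank_eq, Module.finrank_self]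
        have : Omega.RankDim.rank k P = Module.finrank P.ResidueField (P.ResidueField ⊗[Γ(X, U ι j)] Ω[Γ(X, U ι j)⁄k]) := rfl
        omega)
    refine ⟨rename e g, fun h => hg0 (rename_injective _ e.injective (by rw [h, map_zero])), fun v hv φ hs => ?_⟩
    rw [eval_rename] at hv
    haveI : (RingHom.ker φ).IsPrime := RingHom.ker_isPrime _
    refine hg _ hv (RingHom.ker φ) ?_
    have hs' := (sing_iff_mem ι j _ v).1 hs
    have e1 : (0 : Γ(X, U ι j) × Ω[Γ(X, U ι j)⁄k]) +
        ∑ i, algebraMap k Γ(X, U ι j) ((v ∘ e) i) • (m ∘ e) i =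
          jetMap ι j (fun t => algebraMap k Γ(X, U ι j) (v t)) := by
      rw [zero_add, jetMap, Fintype.linearCombination_apply]
      exact e.sum_comp (fun t => algebraMap k Γ(X, U ι j) (v t) • m t)
    rw [e1]
    refine Submodule.smul_induction_on
      (p := fun z => (1 : (RingHom.ker φ).ResidueField) ⊗ₜ[Γ(X, U ι j)] z = 0) hs' ?_ ?_
    · intro a ha z _
      rw [← TensorProduct.smul_tmul, Algebra.smul_def, mul_one, Ideal.algebraMap_residueField_eq_zero.2 ha,
        TensorProduct.zero_tmul]
    · intro a b ha hb; rw [TensorProduct.tmul_add, ha, hb, add_zero]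
  choose g hg0 hg using H
  obtain ⟨v, hv⟩ : ∃ v, eval v (∏ j, g j) ≠ 0 := by
    by_contra hall
    push Not at hall
    exact (Finset.prod_ne_zero_iff.2 fun j _ => hg0 j) (MvPolynomial.funext fun v => by rw [hall v, map_zero])
  rw [map_prod, Finset.prod_ne_zero_iff] at hv
  exact ⟨formMap k r d v, (transversal_iff_points ι hn _).2 fun j φ => hg j v (hv j (Finset.mem_univ _)) φ⟩

omit [IsAlgClosed k] in
theorem exists_poly_comp {f : Form r k d → k} (hf : IsPolyFun k f) :
    ∃ q : MvPolynomial (Tup r d) k, ∀ v, f (formMap k r d v) = eval v q := by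
  classical
  rw [LefPen.IsPolyFun] at hf
  induction hf using Algebra.adjoin_induction with
  | mem g hg =>
    obtain ⟨l, rfl⟩ := hg
    refine ⟨∑ s, C (l (formMap k r d (Pi.single s 1))) * MvPolynomial.X s, fun v => ?_⟩
    simp only [map_sum, map_mul, eval_C, eval_X]
    conv_lhs => rw [pi_eq_sum_univ' v, map_sum, map_sum]
    exact Finset.sum_congr rfl fun s _ => by rw [map_smul, map_smul, smul_eq_mul, mul_comm]
  | algebraMap c => exact ⟨C c, fun v => by simp⟩
  | add p q _ _ hp hq =>
    obtain ⟨P, hP⟩ := hp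
    obtain ⟨Q, hQ⟩ := hq
    exact ⟨P + Q, fun v => by simp [hP, hQ]⟩
  | mul p q _ _ hp hq =>
    obtain ⟨P, hP⟩ := hp
    obtain ⟨Q, hQ⟩ := hq
    exact ⟨P * Q, fun v => by simp [hP, hQ]⟩

theorem exists_point_ne_zero {j : Fin (r + 1)} {a : Γ(X, U ι j)} (ha : (X.basicOpen a : Set X).Nonempty) :
    ∃ φ : Γ(X, U ι j) →ₐ[k] k, φ a ≠ 0 := by
  by_contra hall
  push Not at hall
  obtain ⟨N, hN⟩ := mem_nilradical.1 (mem_nilradical_of_forall ι j a hall)
  obtain ⟨x, hx⟩ := ha
  rcases Nat.eq_zero_or_pos N with rfl | hpos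
  · rw [pow_zero] at hN
    have h0 : a = 0 := by rw [← one_mul a, hN, zero_mul]
    rw [h0, Scheme.basicOpen_zero] at hx
    exact hx
  · rw [← Scheme.basicOpen_pow X a hpos, hN, Scheme.basicOpen_zero] at hx
    exact hx

include hX in
/-- The non-transversal forms form an irreducible set. -/
theorem irreducible_nonTransversal [IrreducibleSpace X] (hn : 1 ≤ n) (hd : 0 < d) {f g : Form r k d → k}
    (hf : IsPolyFun k f) (hg : IsPolyFun k g)
    (hfg : ∀ G : Form r k d, ¬ Transversal k n 1 (secToSpec ι ({G} : Set (Form r k d))) → f G * g G = 0) :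
    (∀ G : Form r k d, ¬ Transversal k n 1 (secToSpec ι ({G} : Set (Form r k d))) → f G = 0) ∨
      (∀ G : Form r k d, ¬ Transversal k n 1 (secToSpec ι ({G} : Set (Form r k d))) → g G = 0) := by
  classical
  obtain ⟨p, hp⟩ := exists_poly_comp hf
  obtain ⟨q, hq⟩ := exists_poly_comp hg
  have hsing : ∀ (j : Fin (r + 1)) (φ : Γ(X, U ι j) →ₐ[k] k) (v : Tup r d → k),
      Sing k (RingHom.ker φ) (hF ι j (formMap k r d v)) →
        ¬ Transversal k n 1 (secToSpec ι ({formMap k r d v} : Set (Form r k d))) :=
    fun j φ v hs ht => (transversal_iff_points ι hn _).1 ht j φ hs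
  have hchart : ∀ j : Fin (r + 1), (U ι j : Set X).Nonempty →
      Van (hX := hX) ι j n hd p ∨ Van (hX := hX) ι j n hd q := by
    intro j hj
    haveI := isPrime_nilradical_chart ι j hj
    let π := Ideal.Quotient.mk (nilradical Γ(X, U ι j))
    haveI : IsDomain (Γ(X, U ι j) ⧸ nilradical Γ(X, U ι j)) := Ideal.Quotient.isDomain _
    have h0 : MvPolynomial.map π (pullJet (hX := hX) ι j n hd p) * MvPolynomial.map π (pullJet (hX := hX) ι j n hd q) = 0 := by
      rw [← map_mul]
      refine MvPolynomial.ext _ _ fun m => ?_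
      rw [coeff_map, coeff_zero, Ideal.Quotient.eq_zero_iff_mem]
      refine mem_nilradical_of_forall ι j _ fun φ => ?_
      have h1 : MvPolynomial.map φ.toRingHom (pullJet (hX := hX) ι j n hd p * pullJet (hX := hX) ι j n hd q) = 0 := by
        refine MvPolynomial.funext fun v => ?_
        rw [map_mul, map_mul, eval_map_pullJet, eval_map_pullJet, map_zero, ← hp, ← hq]
        exact hfg _ (hsing j φ _ (sing_proj (hX := hX) ι j n hd φ v))
      have h2 := congrArg (coeff m) h1
      rwa [coeff_map, coeff_zero] at h2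
    rcases mul_eq_zero.1 h0 with h | h
    · exact Or.inl fun m => Ideal.Quotient.eq_zero_iff_mem.1 (by
        have := congrArg (coeff m) h
        rwa [coeff_map, coeff_zero] at this)
    · exact Or.inr fun m => Ideal.Quotient.eq_zero_iff_mem.1 (by
        have := congrArg (coeff m) h
        rwa [coeff_map, coeff_zero] at this)
  have hspread : ∀ (p : MvPolynomial (Tup r d) k) (i : Fin (r + 1)), (U ι i : Set X).Nonempty →
      Van (hX := hX) ι i n hd p → ∀ (j : Fin (r + 1)) (φ : Γ(X, U ι j) →ₐ[k] k) (v : Tup r d → k),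
        Sing k (RingHom.ker φ) (hF ι j (formMap k r d v)) → eval v p = 0 := by
    intro p i hi hvan j φ v hs
    have hj : (U ι j : Set X).Nonempty := by
      by_contra hne
      rw [Set.not_nonempty_iff_eq_empty] at hne
      have hb : U ι j = ⊥ := Opens.ext hne
      haveI : Subsingleton Γ(X, U ι j) := hb ▸ (inferInstance : Subsingleton Γ(X, ⊥))
      exact one_ne_zero (α := k) (by rw [← map_one φ, Subsingleton.elim (1 : Γ(X, U ι j)) 0, map_zero])
    have hij : (X.basicOpen (coord ι j i) : Set X).Nonempty := by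
      rw [coord, ← Scheme.preimage_basicOpen, basicOpen_ρ, Scheme.Hom.preimage_inf]
      exact nonempty_preirreducible_inter (U ι j).2 (U ι i).2 hj hi
    haveI := isPrime_nilradical_chart ι j hj
    obtain ⟨φ₀, hφ₀⟩ := exists_point_ne_zero ι hij
    have hvj : Van (hX := hX) ι j n hd p := fun m => by
      have hmul : coord ι j i * coeff m (pullJet (hX := hX) ι j n hd p) ∈ nilradical Γ(X, U ι j) := by
        refine mem_nilradical_of_forall ι j _ fun φ₁ => ?_
        rw [map_mul]
        by_cases hφ₁ : φ₁ (coord ι j i) = 0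
        · rw [hφ₁, zero_mul]
        · obtain ⟨ψ, -, hψ⟩ := exists_point_transfer ι n i j φ₁ hφ₁
          have h1 : MvPolynomial.map φ₁.toRingHom (pullJet (hX := hX) ι j n hd p) = 0 := by
            refine MvPolynomial.funext fun w => ?_
            rw [eval_map_pullJet, map_zero]
            exact Van.eval_eq_zero (hX := hX) ι i n hvan ψ _ (hψ _ (sing_proj (hX := hX) ι j n hd φ₁ w))
          have h2 := congrArg (coeff m) h1
          rw [coeff_map, coeff_zero] at h2
          exact mul_eq_zero_of_right _ h2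
      refine ((Ideal.IsPrime.mem_or_mem inferInstance hmul).resolve_left fun hmem => hφ₀ ?_)
      exact IsNilpotent.eq_zero (IsNilpotent.map (show IsNilpotent _ from hmem) φ₀.toRingHom)
    exact Van.eval_eq_zero (hX := hX) ι j n hvj φ v hs
  obtain ⟨x⟩ := (inferInstance : Nonempty X)
  obtain ⟨i, hi⟩ : ∃ i, x ∈ U ι i := by
    obtain ⟨i, hi⟩ := Opens.mem_iSup.1 ((iSup_D k r).ge (trivial : ι x ∈ (⊤ : (CohB1.ProjSpace r k).Opens)))
    exact ⟨i, hi⟩
  have hfin : ∀ (h : Form r k d → k) (q : MvPolynomial (Tup r d) k), (∀ v, h (formMap k r d v) = eval v q) →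
      Van (hX := hX) ι i n hd q →
        ∀ G : Form r k d, ¬ Transversal k n 1 (secToSpec ι ({G} : Set (Form r k d))) → h G = 0 := by
    intro h q hh hvan G hG
    obtain ⟨v, rfl⟩ := formMap_surjective k r d G
    rw [transversal_iff_points ι hn] at hG
    push Not at hG
    obtain ⟨j, φ, hs⟩ := hG
    rw [hh]
    exact hspread q i ⟨x, hi⟩ hvan j φ v hs
  rcases hchart i ⟨x, hi⟩ with h | h
  · exact Or.inl (hfin f p hp h)
  · exact Or.inr (hfin g q hq h)

/-- Homogenisation in degree `D` by `X i`. -/
def homog (i : Fin (r + 1)) (D : ℕ) (p : MvPolynomial (Fin (r + 1)) k) : MvPolynomial (Fin (r + 1)) k :=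
  ∑ m ∈ p.support, C (coeff m p) * (monomial m 1 * MvPolynomial.X i ^ (D - m.degree))

omit [IsAlgClosed k] in
theorem homog_isHomogeneous (i : Fin (r + 1)) {D : ℕ} {p : MvPolynomial (Fin (r + 1)) k} (hD : p.totalDegree < D) :
    (homog i D p).IsHomogeneous D := by
  refine IsHomogeneous.sum _ _ _ fun m hm => ?_
  have hdeg : m.degree ≤ D := by
    refine le_trans ?_ hD.le
    rw [Finsupp.degree_apply]
    exact le_totalDegree hm
  have := (isHomogeneous_monomial (R := k) 1 (rfl : m.degree = m.degree)).mul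
    ((isHomogeneous_X k i).pow (D - m.degree))
  rw [one_mul, Nat.add_sub_cancel' hdeg] at this
  simpa using (isHomogeneous_C (Fin (r + 1)) (coeff m p)).mul this

omit [IsAlgClosed k] in
open Classical in
theorem eval_homog (i : Fin (r + 1)) {D : ℕ} {p : MvPolynomial (Fin (r + 1)) k} (hD : p.totalDegree < D)
    (x : Fin (r + 1) → k) : eval x (homog i D p) = if x i = 0 then 0 else x i ^ D * eval (fun l => x l / x i) p := by
  have hdeg : ∀ m ∈ p.support, m.degree < D := fun m hm => by
    refine lt_of_le_of_lt ?_ hD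
    rw [Finsupp.degree_apply]
    exact le_totalDegree hm
  simp only [homog, map_sum, map_mul, eval_C, map_pow, eval_X, eval_monomial, one_mul]
  split_ifs with h
  · refine Finset.sum_eq_zero fun m hm => ?_
    rw [h, zero_pow (Nat.sub_ne_zero_of_lt (hdeg m hm)), mul_zero, mul_zero]
  · rw [eval_eq, Finset.mul_sum]
    refine Finset.sum_congr rfl fun m hm => ?_
    simp only [div_pow, Finset.prod_div_distrib, Finsupp.prod]
    rw [Finset.prod_pow_eq_pow_sum, ← Finsupp.degree_apply]
    have : x i ^ D = x i ^ (D - m.degree) * x i ^ m.degree := by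
      rw [← pow_add, Nat.sub_add_cancel (hdeg m hm).le]
    rw [this]
    field_simp

include hX in
/-- The transversal forms form an open set. -/
theorem isZOpen_transversal (hn : 1 ≤ n) (hd : 0 < d) :
    IsZOpen k {G : Form r k d | Transversal k n 1 (secToSpec ι ({G} : Set (Form r k d)))} := by
  classical
  intro G₀ hG₀
  obtain ⟨σ, hσ⟩ := (formMap k r d).exists_rightInverse_of_surjective (LinearMap.range_eq_top.2 (formMap_surjective k r d))
  have hσ' : ∀ G, formMap k r d (σ G) = G := fun G => LinearMap.congr_fun hσ G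
  choose Q hQ using fun i t s => aeval_coord_surjective ι i (jetCoeff (hX := hX) ι i n hd t s)
  let D₀ : ℕ := 1 + Finset.univ.sup fun x : Fin (r + 1) × Tup r d × Tup r d => (Q x.1 x.2.1 x.2.2).totalDegree
  have hQdeg : ∀ i t s, (Q i t s).totalDegree < D₀ := fun i t s => Nat.lt_one_add_iff.2
    (Finset.le_sup (f := fun x : Fin (r + 1) × Tup r d × Tup r d => (Q x.1 x.2.1 x.2.2).totalDegree)
      (Finset.mem_univ (i, t, s)))
  let J := (Σ i : Fin (r + 1), ↥(RingHom.ker (aeval (coord ι i) : MvPolynomial (Fin (r + 1)) k →ₐ[k] Γ(X, U ι i)))) ⊕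
    (Fin (r + 1) × Tup r d)
  let deg : J → ℕ := Sum.elim (fun a => a.2.1.totalDegree + 1) (fun _ => D₀)
  let gen : (Tup r d → k) → J → MvPolynomial (Fin (r + 1)) k := fun v =>
    Sum.elim (fun a => homog a.1 (a.2.1.totalDegree + 1) a.2.1)
      (fun a => ∑ s, C (v s) * homog a.1 D₀ (Q a.1 a.2 s))
  have hgen : ∀ v b, (gen v b).IsHomogeneous (deg b) := by
    rintro v (a | a)
    · exact homog_isHomogeneous _ (Nat.lt_succ_self _)
    · exact IsHomogeneous.sum _ _ _ fun s _ => by
        simpa [deg] using (isHomogeneous_C (Fin (r + 1)) (v s)).mul (homog_isHomogeneous a.1 (hQdeg a.1 a.2 s))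
  have hbad : ∀ (v : Tup r d → k) (j : Fin (r + 1)) (φ : Γ(X, U ι j) →ₐ[k] k),
      Sing k (RingHom.ker φ) (hF ι j (formMap k r d v)) →
        ∀ b, eval (fun l => φ (coord ι j l)) (gen v b) = 0 := by
    intro v j φ hs b
    have hev : ∀ (i : Fin (r + 1)), φ (coord ι j i) ≠ 0 → ∀ (ψ : Γ(X, U ι i) →ₐ[k] k),
        (∀ l, φ (coord ι j l) = φ (coord ι j i) * ψ (coord ι i l)) → ∀ p : MvPolynomial (Fin (r + 1)) k,
          eval (fun l => φ (coord ι j l) / φ (coord ι j i)) p = ψ (aeval (coord ι i) p) := by
      intro i hi ψ hψ p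
      rw [comp_aeval_apply, show (fun l => φ (coord ι j l) / φ (coord ι j i)) = fun l => ψ (coord ι i l) from
        funext fun l => by rw [hψ l, mul_div_cancel_left₀ _ hi]]
      rfl
    rcases b with ⟨i, p, hp⟩ | ⟨i, t⟩
    · simp only [gen, Sum.elim_inl]
      rw [eval_homog i (Nat.lt_succ_self _)]
      split_ifs with h
      · rfl
      · obtain ⟨ψ, hψ, -⟩ := exists_point_transfer ι n i j φ h
        rw [hev i h ψ hψ, RingHom.mem_ker.1 hp, map_zero, mul_zero]
    · simp only [gen, Sum.elim_inr, map_sum, map_mul, eval_C]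
      simp only [eval_homog i (hQdeg i t _)]
      by_cases h : φ (coord ι j i) = 0
      · simp [h]
      · obtain ⟨ψ, hψ, hψs⟩ := exists_point_transfer ι n i j φ h
        simp only [if_neg h, hev i h ψ hψ, hQ]
        have h1 := RingHom.mem_ker.1 ((sing_iff (hX := hX) ι i n hd _ v).1 (hψs _ hs) t)
        simp only [map_sum, map_mul, AlgHom.commutes, Algebra.algebraMap_self, RingHom.id_apply] at h1
        rw [← mul_zero (φ (coord ι j i) ^ D₀), ← h1, Finset.mul_sum]
        exact Finset.sum_congr rfl fun s _ => mul_left_comm _ _ _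
  set v₀ := σ G₀ with hv₀
  have hgood : ∀ x : Fin (r + 1) → k, (∀ b, eval x (gen v₀ b) = 0) → x = 0 := by
    intro x hx
    by_contra hne
    obtain ⟨j, hj⟩ := Function.ne_iff.1 hne
    let a : Fin (r + 1) → k := fun l => x l / x j
    have hker : ∀ p ∈ RingHom.ker (aeval (coord ι j) : MvPolynomial (Fin (r + 1)) k →ₐ[k] Γ(X, U ι j)),
        aeval (R := k) a p = 0 := by
      intro p hp
      have := hx (Sum.inl ⟨j, p, hp⟩)
      simp only [gen, Sum.elim_inl] at this
      rw [eval_homog j (Nat.lt_succ_self _), if_neg (by simpa using hj)] at this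
      rw [aeval_eq_eval]
      exact (mul_eq_zero.1 this).resolve_left (pow_ne_zero _ (by simpa using hj))
    let φ : Γ(X, U ι j) →ₐ[k] k := (Ideal.Quotient.liftₐ (RingHom.ker (aeval (coord ι j) : MvPolynomial (Fin (r + 1)) k →ₐ[k] Γ(X, U ι j))) (aeval (R := k) a) hker).comp
      (Ideal.quotientKerAlgEquivOfSurjective (aeval_coord_surjective ι j)).symm.toAlgHom
    have hφ : ∀ p, φ (aeval (coord ι j) p) = eval a p := fun p => by
      have : (Ideal.quotientKerAlgEquivOfSurjective (aeval_coord_surjective ι j)).symm (aeval (coord ι j) p) =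
          Ideal.Quotient.mk _ p := by
        rw [AlgEquiv.symm_apply_eq]; rfl
      show (Ideal.Quotient.liftₐ (RingHom.ker (aeval (coord ι j) : MvPolynomial (Fin (r + 1)) k →ₐ[k] Γ(X, U ι j))) (aeval (R := k) a) hker) ((Ideal.quotientKerAlgEquivOfSurjective (aeval_coord_surjective ι j)).symm _) = _
      rw [this, Ideal.Quotient.liftₐ_apply, Ideal.Quotient.lift_mk]
      exact congrFun (aeval_eq_eval a) p
    refine ((transversal_iff_points ι hn _).1 hG₀) j φ ?_
    rw [← hσ' G₀, sing_iff (hX := hX) ι j n hd]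
    intro t
    rw [RingHom.mem_ker, map_sum]
    have := hx (Sum.inr (j, t))
    simp only [gen, Sum.elim_inr, map_sum, map_mul, eval_C, eval_homog j (hQdeg j t _)] at this
    simp only [if_neg (show ¬ x j = 0 by simpa using hj)] at this
    refine (mul_eq_zero.1 (?_ : x j ^ D₀ * _ = 0)).resolve_left (pow_ne_zero _ (by simpa using hj))
    rw [← this, Finset.mul_sum]
    refine Finset.sum_congr rfl fun s _ => ?_
    rw [map_mul, AlgHom.commutes, ← hQ j t s, hφ]
    exact mul_left_comm _ _ _
  set K := Ideal.span (Set.range (gen v₀))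
  have hrad : ∀ l : Fin (r + 1), MvPolynomial.X l ∈ K.radical := by
    intro l
    rw [← vanishingIdeal_zeroLocus_eq_radical (K := k), mem_vanishingIdeal_iff]
    intro x hx
    rw [mem_zeroLocus_iff] at hx
    rw [hgood x fun b => by simpa [aeval_eq_eval] using hx _ (Ideal.subset_span ⟨b, rfl⟩)]
    simp
  choose N hN using hrad
  let M : ℕ := (r + 1) * (Finset.univ.sup N) + 1
  let S := {c : (Fin (r + 1) →₀ ℕ) × J // c.1.degree + deg c.2 = M}
  let w : (Tup r d → k) → S → MvPolynomial (Fin (r + 1)) k := fun v c => monomial c.1.1 1 * gen v c.1.2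
  have hw : ∀ v c, (w v c).IsHomogeneous M := fun v c => by
    have := (isHomogeneous_monomial (R := k) 1 (rfl : c.1.1.degree = c.1.1.degree)).mul (hgen v c.1.2)
    rwa [c.2] at this
  have hspan : ∀ p ∈ K, homogeneousComponent M p ∈ Submodule.span k (Set.range (w v₀)) := by
    intro p hp
    refine Submodule.span_induction (p := fun p _ => ∀ b : MvPolynomial (Fin (r + 1)) k,
      homogeneousComponent M (b * p) ∈ Submodule.span k (Set.range (w v₀))) ?_ ?_ ?_ ?_ hp 1 |> (by simpa using ·)
    · rintro _ ⟨c, rfl⟩ b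
      induction b using MvPolynomial.induction_on' with
      | monomial e z =>
        have hh : (monomial e z * gen v₀ c).IsHomogeneous (e.degree + deg c) :=
          (isHomogeneous_monomial z rfl).mul (hgen v₀ c)
        rw [homogeneousComponent_of_mem ((mem_homogeneousSubmodule _ _).2 hh)]
        split_ifs with h
        · rw [show monomial e z * gen v₀ c = z • w v₀ ⟨(e, c), h.symm⟩ by
            simp only [w, smul_eq_C_mul, ← mul_assoc, C_mul_monomial, mul_one]]
          exact Submodule.smul_mem _ _ (Submodule.subset_span ⟨_, rfl⟩)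
        · exact zero_mem _
      | add b b' hb hb' => rw [add_mul, map_add]; exact add_mem hb hb'
    · intro b; simp
    · intro p q _ _ hp hq b; rw [mul_add, map_add]; exact add_mem (hp b) (hq b)
    · intro c p _ hp b; rw [smul_eq_mul, ← mul_assoc]; exact hp _
  let Mo := {m : Fin (r + 1) →₀ ℕ // m.degree = M}
  haveI : Finite Mo := ((Finset.Iic (Finsupp.equivFunOnFinite.symm fun _ : Fin (r + 1) => M)).finite_toSet.subset
    (fun m (hm : m.degree = M) => Finset.mem_coe.2 (Finset.mem_Iic.2 fun l => hm ▸ Finsupp.le_degree l m))).to_subtype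
  letI := Fintype.ofFinite Mo
  let vec : MvPolynomial (Fin (r + 1)) k →ₗ[k] (Mo → k) := LinearMap.pi fun m => lcoeff k m.1
  have hfull : Submodule.span k (Set.range (fun c => vec (w v₀ c))) = ⊤ := by
    rw [eq_top_iff]
    intro z _
    rw [pi_eq_sum_univ' z]
    refine Submodule.sum_mem _ fun m _ => Submodule.smul_mem _ _ ?_
    have hmem : monomial m.1 (1 : k) ∈ K := by
      obtain ⟨l, hl⟩ : ∃ l, Finset.univ.sup N ≤ m.1 l := by
        by_contra hne
        push Not at hne
        have h1 : m.1.degree ≤ (r + 1) * Finset.univ.sup N := by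
          rw [Finsupp.degree_eq_sum]
          calc ∑ l, m.1 l ≤ ∑ _l : Fin (r + 1), Finset.univ.sup N := Finset.sum_le_sum fun l _ => (hne l).le
            _ = _ := by simp
        have := m.2
        omega
      have hle : Finsupp.single l (N l) ≤ m.1 := by
        rw [Finsupp.single_le_iff]
        exact (Finset.le_sup (Finset.mem_univ l)).trans hl
      rw [show monomial m.1 (1 : k) = monomial (m.1 - Finsupp.single l (N l)) 1 * MvPolynomial.X l ^ N l by
        rw [X_pow_eq_monomial, monomial_mul, one_mul, tsub_add_cancel_of_le hle]]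
      exact K.mul_mem_left _ (hN l)
    have h2 := hspan _ hmem
    rw [homogeneousComponent_eq_self (isHomogeneous_monomial 1 m.2)] at h2
    have h3 := Submodule.mem_map_of_mem (f := vec) h2
    rw [Submodule.map_span, ← Set.range_comp] at h3
    refine (congrArg (· ∈ Submodule.span k (Set.range (vec ∘ w v₀))) ?_).mp h3
    funext m'
    show coeff m'.1 (monomial m.1 (1 : k)) = (Pi.single m (1 : k) : Mo → k) m'
    by_cases h : m = m'
    · subst h; rw [Pi.single_eq_same, coeff_monomial, if_pos rfl]
    · rw [Pi.single_eq_of_ne (Ne.symm h), coeff_monomial, if_neg fun e => h (Subtype.ext e)]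
  obtain ⟨f, hf, hfspan, hfli⟩ := Submodule.exists_fun_fin_finrank_span_eq k (Set.range fun c => vec (w v₀ c))
  replace hfspan := hfspan.trans hfull
  choose c hc using hf
  have hcard : Fintype.card Mo = Module.finrank k (Submodule.span k (Set.range fun c => vec (w v₀ c))) := by
    rw [hfull, finrank_top, Module.finrank_fintype_fun_eq_card]
  let e : Mo ≃ Fin _ := (Fintype.equivFin Mo).trans (finCongr hcard)
  let T : (Tup r d → k) → Matrix Mo Mo k := fun v => Matrix.of fun m m' => vec (w v (c (e m))) m'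
  let Tpoly : Matrix Mo Mo (MvPolynomial (Tup r d) k) := Matrix.of fun m m' =>
    coeff m'.1 (monomial (c (e m)).1.1 (1 : MvPolynomial (Tup r d) k) *
      Sum.elim (fun a => MvPolynomial.map C (homog a.1 (a.2.1.totalDegree + 1) a.2.1))
        (fun a => ∑ s, C (MvPolynomial.X s) * MvPolynomial.map C (homog a.1 D₀ (Q a.1 a.2 s))) (c (e m)).1.2)
  have hT : ∀ v, T v = (eval v).mapMatrix Tpoly := by
    intro v
    ext m m'
    simp only [T, Tpoly, RingHom.mapMatrix_apply, Matrix.map_apply, Matrix.of_apply, vec, LinearMap.pi_apply,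
      lcoeff_apply, ← coeff_map, map_mul, map_monomial, map_one, w]
    congr 2
    have hid : (eval v).comp (C : k →+* MvPolynomial (Tup r d) k) = RingHom.id k := RingHom.ext fun z => eval_C z
    rcases (c (e m)).1.2 with a | a
    · simp only [gen, Sum.elim_inl, MvPolynomial.map_map, hid, MvPolynomial.map_id, RingHom.id_apply]
    · simp only [gen, Sum.elim_inr, map_sum, map_mul, map_C, eval_X, MvPolynomial.map_map, hid, MvPolynomial.map_id, RingHom.id_apply]
  have hdet₀ : (T v₀).det ≠ 0 := by
    rw [← isUnit_iff_ne_zero, ← Matrix.isUnit_iff_isUnit_det, ← Matrix.linearIndependent_rows_iff_isUnit]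
    have : (T v₀).row = f ∘ e := funext fun m => hc (e m)
    rw [this]
    exact hfli.comp _ e.injective
  refine ⟨fun G => eval (σ G) Tpoly.det, GenericFibre.isPolyFun_eval
    (fun s => (LinearMap.proj s).comp σ) Tpoly.det, ?_, fun G hG => ?_⟩
  · show eval v₀ Tpoly.det ≠ 0
    rw [RingHom.map_det, ← hT]
    exact hdet₀
  · replace hG : eval (σ G) Tpoly.det ≠ 0 := hG
    rw [RingHom.map_det, ← hT, ← isUnit_iff_ne_zero, ← Matrix.isUnit_iff_isUnit_det,
      ← Matrix.linearIndependent_rows_iff_isUnit] at hG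
    show Transversal k n 1 _
    rw [transversal_iff_points ι hn]
    intro j φ hs
    rw [← hσ' G] at hs
    have hz := hbad (σ G) j φ hs
    let mj : Mo := ⟨Finsupp.single j M, Finsupp.degree_single j M⟩
    haveI : Nonempty Mo := ⟨mj⟩
    have htop := hG.span_eq_top_of_card_eq_finrank (by rw [Module.finrank_fintype_fun_eq_card])
    let ev : (Mo → k) →ₗ[k] k := Fintype.linearCombination k fun m : Mo => eval (fun l => φ (coord ι j l)) (monomial m.1 (1 : k))
    have hev : ∀ p : MvPolynomial (Fin (r + 1)) k, p.IsHomogeneous M → ev (vec p) = eval (fun l => φ (coord ι j l)) p := by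
      intro p hp
      conv_rhs => rw [← p.support_sum_monomial_coeff, map_sum]
      simp only [ev, Fintype.linearCombination_apply, vec, LinearMap.pi_apply, lcoeff_apply]
      symm
      refine Finset.sum_bij_ne_zero (fun m hm _ => ⟨m, (hp.degree_eq_sum_deg_support hm).symm⟩) (fun _ _ _ => Finset.mem_univ _)
        (fun a _ _ b _ _ h => congrArg Subtype.val h) ?_ (fun m hm _ => ?_)
      · intro m _ hm
        have hm' : m.1 ∈ p.support := by
          rw [mem_support_iff]; intro h; exact hm (by rw [h, zero_smul])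
        refine ⟨m.1, hm', ?_, rfl⟩
        intro h
        refine hm ?_
        rw [smul_eq_mul, ← h]
        simp [eval_monomial]
      · simp [eval_monomial]
    have hzero : ev = 0 := by
      refine LinearMap.ext_on_range htop fun m => ?_
      show ev (vec (w (σ G) (c (e m)))) = 0
      rw [hev _ (hw _ _)]
      simp [w, hz]
    have h1 := LinearMap.congr_fun hzero (Pi.single mj 1)
    simp [ev, Fintype.linearCombination_apply_single, mj, eval_monomial, coord_self] at h1
    obtain ⟨l, -, hl⟩ := Finset.prod_eq_zero_iff.1 h1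
    obtain ⟨hl0, hl1⟩ := pow_eq_zero_iff'.1 hl
    obtain rfl : l = j := by
      by_contra hne
      exact hl1 (Finsupp.single_eq_of_ne hne)
    rw [coord_self, map_one] at hl0
    exact one_ne_zero hl0

end Groth.Agent.LefHyp
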